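import Mathlib

/-!
# The involutions of `PSL(3, F)` in characteristic 2 form one class
-/

set_option autoImplicit false

namespace Cfsg.Agent.CITConsumer

open Matrix

variable {F : Type*} [Field F]

/-- An involutory matrix of determinant one in three variables is a transvection up to
conjugation in `SL₃`, in characteristic two. -/
theorem exists_conj_transvection_of_sq [CharP F 2] (h : Matrix.SpecialLinearGroup (Fin 3) F)
    (hh : h * h = 1) (h1 : h ≠ 1) :
    ∃ P : Matrix.SpecialLinearGroup (Fin 3) F,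
      P * Matrix.SpecialLinearGroup.transvection (show (0 : Fin 3) ≠ 2 by decide) 1 * P⁻¹ = h := by
  have hadd : ∀ y : Fin 3 → F, y + y = 0 := fun y => funext fun i => CharTwo.add_self_eq_zero _
  set N : Matrix (Fin 3) (Fin 3) F := (h : Matrix (Fin 3) (Fin 3) F) + 1 with hN
  have hhv : ∀ y : Fin 3 → F, (h : Matrix (Fin 3) (Fin 3) F) *ᵥ y = y + N *ᵥ y := fun y => by
    rw [hN, add_mulVec, one_mulVec, add_left_comm, hadd, add_zero]
  have hN2 : ∀ y : Fin 3 → F, N *ᵥ (N *ᵥ y) = 0 := fun y => by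
    have e : (h : Matrix (Fin 3) (Fin 3) F) *ᵥ ((h : Matrix (Fin 3) (Fin 3) F) *ᵥ y) = y := by
      have hH : (h : Matrix (Fin 3) (Fin 3) F) * (h : Matrix (Fin 3) (Fin 3) F) = 1 :=
        congrArg Subtype.val hh
      rw [mulVec_mulVec, hH, one_mulVec]
    rw [hhv, hhv y, mulVec_add] at e
    have e2 : y + N *ᵥ y + (N *ᵥ y + N *ᵥ (N *ᵥ y)) = y + N *ᵥ (N *ᵥ y) := by
      rw [add_assoc, ← add_assoc (N *ᵥ y) (N *ᵥ y), hadd, zero_add]
    rw [e2] at e
    simpa using e
  -- a vector moved by `N`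
  obtain ⟨u, hu⟩ : ∃ u : Fin 3 → F, N *ᵥ u ≠ 0 := by
    by_contra hc
    push Not at hc
    refine h1 (Subtype.ext (Matrix.toLin'.injective (LinearMap.ext fun y => ?_)))
    show (h : Matrix (Fin 3) (Fin 3) F) *ᵥ y = (1 : Matrix (Fin 3) (Fin 3) F) *ᵥ y
    rw [hhv, hc, add_zero, one_mulVec]
  set v := N *ᵥ u with hv
  have hvu : ∀ a b : F, a • v + b • u = 0 → a = 0 ∧ b = 0 := by
    intro a b hab
    have e := congrArg (N *ᵥ ·) hab
    simp only [hv, mulVec_add, mulVec_smul, mulVec_zero, hN2, smul_zero, zero_add] at e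
    have hb : b = 0 := (smul_eq_zero.1 e).resolve_right hu
    rw [hb, zero_smul, add_zero] at hab
    exact ⟨(smul_eq_zero.1 hab).resolve_right hu, hb⟩
  -- a third vector
  have hli2 : LinearIndependent F ![v, u] := LinearIndependent.pair_iff.2 hvu
  obtain ⟨w, hw⟩ : ∃ w : Fin 3 → F, w ∉ Submodule.span F (Set.range ![v, u]) := by
    by_contra hc
    push Not at hc
    have e : Submodule.span F (Set.range ![v, u]) = ⊤ := eq_top_iff.2 fun y _ => hc y
    have := finrank_span_eq_card hli2
    rw [e, finrank_top, Module.finrank_fin_fun, Fintype.card_fin] at this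
    omega
  have hli : ∀ a b c : F, a • v + b • w + c • u = 0 → a = 0 ∧ b = 0 ∧ c = 0 := by
    intro a b c habc
    by_cases hb : b = 0
    · subst hb
      rw [zero_smul, add_zero] at habc
      exact ⟨(hvu a c habc).1, rfl, (hvu a c habc).2⟩
    · refine absurd ?_ hw
      have e : w = (-(b⁻¹ * a)) • v + (-(b⁻¹ * c)) • u := by
        have e' := congrArg (fun z => b⁻¹ • z) habc
        simp only [smul_add, smul_smul, inv_mul_cancel₀ hb, one_smul, smul_zero] at e'
        rw [neg_smul, neg_smul]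
        linear_combination (norm := module) e'
      rw [e]
      exact add_mem (Submodule.smul_mem _ _ (Submodule.subset_span ⟨0, rfl⟩))
        (Submodule.smul_mem _ _ (Submodule.subset_span ⟨1, rfl⟩))
  have hcols : ∀ x y z : Fin 3 → F,
      (∀ a b c : F, a • x + b • y + c • z = 0 → a = 0 ∧ b = 0 ∧ c = 0) →
      LinearIndependent F ![x, y, z] := by
    intro x y z hxyz
    rw [Fintype.linearIndependent_iff]
    intro g hg
    rw [Fin.sum_univ_three] at hg
    obtain ⟨a, b, c⟩ := hxyz (g 0) (g 1) (g 2) hg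
    intro i
    fin_cases i <;> assumption
  -- the matrix of `N` on `w`
  have hbasis : Submodule.span F (Set.range ![v, w, u]) = ⊤ :=
    (hcols v w u hli).span_eq_top_of_card_eq_finrank (by simp)
  obtain ⟨g, hg⟩ := Submodule.mem_span_range_iff_exists_fun F |>.1
    (hbasis ▸ Submodule.mem_top : N *ᵥ w ∈ Submodule.span F (Set.range ![v, w, u]))
  rw [Fin.sum_univ_three] at hg
  simp only [Matrix.cons_val_zero, Matrix.cons_val_one, Matrix.cons_val] at hg
  have e := congrArg (N *ᵥ ·) hg
  simp only [mulVec_add, mulVec_smul, ← hv, hN2] at e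
  have hNv : N *ᵥ v = 0 := hN2 u
  rw [hNv, smul_zero, zero_add, ← hg] at e
  obtain ⟨e0, e1, e2⟩ := hli (g 1 * g 0 + g 2) (g 1 * g 1) (g 1 * g 2) (by
    rw [← e]; module)
  have hg1 : g 1 = 0 := mul_self_eq_zero.1 e1
  have hg2 : g 2 = 0 := by rw [hg1, zero_mul, zero_add] at e0; exact e0
  rw [hg1, hg2, zero_smul, zero_smul, add_zero, add_zero] at hg
  set w' := w + g 0 • u with hw'
  have hNw : N *ᵥ w' = 0 := by
    rw [hw', mulVec_add, mulVec_smul, ← hv, ← hg, hadd]
  -- the conjugating matrix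
  set M : Matrix (Fin 3) (Fin 3) F := (Matrix.of ![v, w', u])ᵀ with hM
  have hMdet : M.det ≠ 0 := by
    rw [hM, det_transpose]
    have hli' : LinearIndependent F ![v, w', u] := hcols v w' u fun a b c habc => by
      obtain ⟨x, y, z⟩ := hli a b (b * g 0 + c) (by rw [← habc, hw']; module)
      rw [y, zero_mul, zero_add] at z
      exact ⟨x, y, z⟩
    exact ((Matrix.isUnit_iff_isUnit_det _).1
      (Matrix.linearIndependent_rows_iff_isUnit.1 hli')).ne_zero
  set d : Fin 3 → F := ![1, M.det⁻¹, 1] with hd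
  have hPdet : (M * diagonal d).det = 1 := by
    rw [det_mul, det_diagonal, Fin.prod_univ_three]
    simp [d, hMdet]
  refine ⟨⟨M * diagonal d, hPdet⟩, mul_inv_eq_iff_eq_mul.2 (Subtype.ext ?_)⟩
  show M * diagonal d * Matrix.transvection (0 : Fin 3) 2 1 =
    (h : Matrix (Fin 3) (Fin 3) F) * (M * diagonal d)
  have hcol : ∀ i : Fin 3, (h : Matrix (Fin 3) (Fin 3) F) *ᵥ (fun r => M r i) =
      (fun r => M r i) + (if i = 2 then v else 0) := by
    intro i
    rw [hhv]
    congr 1
    fin_cases i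
    · exact hNv
    · exact hNw
    · exact hv.symm
  ext r c
  have hc := congrFun (hcol c) r
  rw [← Matrix.mul_assoc, mul_diagonal,
    show ((h : Matrix (Fin 3) (Fin 3) F) * M) r c =
      ((h : Matrix (Fin 3) (Fin 3) F) *ᵥ fun r => M r c) r from rfl, hc]
  fin_cases c <;>
    simp [Matrix.transvection, Matrix.single, Matrix.mul_apply, Fin.sum_univ_three, d, M] <;>
    exact add_comm _ _

/-- All involutions of `PSL(3, F)` are conjugate in characteristic two. -/
theorem psl_three_involutions_isConj [CharP F 2] {x y : Matrix.ProjectiveSpecialLinearGroup (Fin 3) F}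
    (hx : orderOf x = 2) (hy : orderOf y = 2) : IsConj x y := by
  suffices key : ∀ z : Matrix.ProjectiveSpecialLinearGroup (Fin 3) F, orderOf z = 2 →
      IsConj (QuotientGroup.mk (Matrix.SpecialLinearGroup.transvection
        (show (0 : Fin 3) ≠ 2 by decide) (1 : F))) z from
    (key x hx).symm.trans (key y hy)
  intro z hz
  obtain ⟨g, rfl⟩ := QuotientGroup.mk_surjective z
  have hg2 : g * g ∈ Subgroup.center (Matrix.SpecialLinearGroup (Fin 3) F) := by
    rw [← QuotientGroup.eq_one_iff, QuotientGroup.mk_mul, ← sq, ← hz, pow_orderOf_eq_one]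
  obtain ⟨c, hc3, hc⟩ := Matrix.SpecialLinearGroup.mem_center_iff.1 hg2
  rw [Fintype.card_fin] at hc3
  let s : Matrix.SpecialLinearGroup (Fin 3) F := ⟨scalar (Fin 3) c, by simp [scalar_apply, ← pow_succ, hc3]⟩
  have hs : s ∈ Subgroup.center (Matrix.SpecialLinearGroup (Fin 3) F) :=
    Matrix.SpecialLinearGroup.mem_center_iff.2 ⟨c, by rw [Fintype.card_fin, hc3], rfl⟩
  have hss : s * g * (s * g) = 1 := by
    have hcg : g * s = s * g := Subgroup.mem_center_iff.1 hs g
    rw [mul_assoc, ← mul_assoc g, hcg, mul_assoc s g g, ← mul_assoc s s]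
    refine Subtype.ext ?_
    show scalar (Fin 3) c * scalar (Fin 3) c * ((g * g : Matrix.SpecialLinearGroup (Fin 3) F) : Matrix _ _ F) = 1
    rw [← hc, ← map_mul, ← map_mul, show c * c * c = 1 by rw [← hc3]; ring, map_one]
  have hne : s * g ≠ 1 := fun h => by
    rw [← inv_eq_iff_mul_eq_one.mpr h, QuotientGroup.mk_inv, (QuotientGroup.eq_one_iff _).2 hs,
      inv_one, orderOf_one] at hz
    omega
  obtain ⟨P, hP⟩ := exists_conj_transvection_of_sq (s * g) hss hne
  refine isConj_iff.2 ⟨QuotientGroup.mk P, ?_⟩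
  rw [← QuotientGroup.mk_inv, ← QuotientGroup.mk_mul, ← QuotientGroup.mk_mul, hP,
    QuotientGroup.mk_mul, (QuotientGroup.eq_one_iff _).2 hs, one_mul]

end Cfsg.Agent.CITConsumer
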