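import Mathlib

/-!
# Small subgroups of `PSL(3, 4)`: a four-element field gives `3 × 3` and `7:3`
-/

set_option autoImplicit false

namespace Cfsg.Agent.CITConsumer

variable {F : Type*} [Field F] [Fintype F]

omit [Fintype F] in
/-- The kernel of `SL₃ → PSL₃` consists of scalars. -/
theorem mk_eq_one_iff_scalar {g : Matrix.SpecialLinearGroup (Fin 3) F} :
    (QuotientGroup.mk g : Matrix.ProjectiveSpecialLinearGroup (Fin 3) F) = 1 ↔
      ∃ r : F, r ^ 3 = 1 ∧ Matrix.scalar (Fin 3) r = (g : Matrix (Fin 3) (Fin 3) F) := by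
  rw [QuotientGroup.eq_one_iff, Matrix.SpecialLinearGroup.mem_center_iff, Fintype.card_fin]

/-- `PSL(3, 4)` has an elementary abelian subgroup of order nine. -/
theorem psl_three_four_nine (hF : Fintype.card F = 4) :
    ∃ a b : Matrix.ProjectiveSpecialLinearGroup (Fin 3) F,
      orderOf a = 3 ∧ orderOf b = 3 ∧ Commute a b ∧ b ∉ Subgroup.zpowers a := by
  haveI : Fact (Nat.Prime 3) := ⟨Nat.prime_three⟩
  classical
  obtain ⟨u, hu⟩ := exists_prime_orderOf_dvd_card (G := Fˣ) 3 (by rw [Fintype.card_units, hF])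
  have hu3 : (u : F) ^ 3 = 1 := by rw [← Units.val_pow_eq_pow_val, ← hu, pow_orderOf_eq_one, Units.val_one]
  have hu1 : (u : F) ≠ 1 := fun h => by
    rw [Units.val_eq_one] at h
    rw [h, orderOf_one] at hu
    omega
  let A : Matrix.SpecialLinearGroup (Fin 3) F := ⟨Matrix.diagonal ![1, (u : F), (u : F) ^ 2], by
    rw [Matrix.det_diagonal, Fin.prod_univ_three]; simp; linear_combination hu3⟩
  let B : Matrix.SpecialLinearGroup (Fin 3) F := ⟨!![0, 1, 0; 0, 0, 1; 1, 0, 0], by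
    simp [Matrix.det_fin_three]⟩
  let π := QuotientGroup.mk' (Subgroup.center (Matrix.SpecialLinearGroup (Fin 3) F))
  have hA3 : A ^ 3 = 1 := by
    refine Subtype.ext ?_
    show Matrix.diagonal ![1, (u : F), (u : F) ^ 2] ^ 3 = 1
    rw [Matrix.diagonal_pow, Matrix.diagonal_eq_one]
    funext i
    fin_cases i <;> simp [hu3, ← pow_mul]
    rw [show (6 : ℕ) = 3 * 2 by norm_num, pow_mul, hu3, one_pow]
  have hB3 : B ^ 3 = 1 := by
    refine Subtype.ext ?_
    show (!![0, 1, 0; 0, 0, 1; 1, 0, 0] : Matrix (Fin 3) (Fin 3) F) ^ 3 = 1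
    rw [pow_succ, pow_two]
    ext i j
    fin_cases i <;> fin_cases j <;> simp [Matrix.mul_apply, Fin.sum_univ_three, Matrix.vecMul_diagonal]
  let Z : Matrix.SpecialLinearGroup (Fin 3) F := ⟨Matrix.scalar (Fin 3) ((u : F) ^ 2), by
    simp [← pow_mul]; rw [show (6 : ℕ) = 3 * 2 by norm_num, pow_mul, hu3, one_pow]⟩
  have hcomm : A * B = Z * (B * A) := by
    refine Subtype.ext ?_
    show Matrix.diagonal ![1, (u : F), (u : F) ^ 2] * !![0, 1, 0; 0, 0, 1; 1, 0, 0] =
      Matrix.scalar (Fin 3) ((u : F) ^ 2) *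
        (!![0, 1, 0; 0, 0, 1; 1, 0, 0] * Matrix.diagonal ![1, (u : F), (u : F) ^ 2])
    ext i j
    fin_cases i <;> fin_cases j <;> simp [Matrix.mul_apply, Fin.sum_univ_three, Matrix.vecMul_diagonal]
    · linear_combination -hu3
    · linear_combination -(u : F) * hu3
  have hZ : π Z = 1 := (mk_eq_one_iff_scalar).2 ⟨(u : F) ^ 2, by
    rw [← pow_mul, show (2 * 3 : ℕ) = 3 * 2 by norm_num, pow_mul, hu3, one_pow], rfl⟩
  refine ⟨π A, π B, orderOf_eq_prime (by rw [← map_pow, hA3, map_one]) ?_,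
    orderOf_eq_prime (by rw [← map_pow, hB3, map_one]) ?_, ?_, ?_⟩
  · intro h
    obtain ⟨r, -, hr⟩ := mk_eq_one_iff_scalar.1 h
    have h0 := congrFun (congrFun hr 0) 0
    have h1 := congrFun (congrFun hr 1) 1
    simp [A] at h0 h1
    exact hu1 (h1 ▸ h0)
  · intro h
    obtain ⟨r, -, hr⟩ := mk_eq_one_iff_scalar.1 h
    have h0 := congrFun (congrFun hr 0) 1
    simp [B] at h0
  · show π A * π B = π B * π A
    rw [← map_mul, hcomm, map_mul, hZ, one_mul, map_mul]
  · intro h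
    obtain ⟨k, hk⟩ := (isOfFinOrder_of_finite _).mem_powers_iff_mem_zpowers.2 h
    have e : π ((A ^ k)⁻¹ * B) = 1 := by
      rw [map_mul, map_inv, map_pow, show π A ^ k = π B from hk, inv_mul_cancel]
    obtain ⟨r, hr3, hr⟩ := mk_eq_one_iff_scalar.1 e
    have e2 : (A : Matrix (Fin 3) (Fin 3) F) ^ k * Matrix.scalar (Fin 3) r =
        (B : Matrix (Fin 3) (Fin 3) F) := by
      rw [hr, ← Matrix.SpecialLinearGroup.coe_pow, ← Matrix.SpecialLinearGroup.coe_mul, mul_inv_cancel_left]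
    have h01 := congrFun (congrFun e2 0) 1
    simp [A, B, Matrix.diagonal_pow] at h01

/-- The Singer cycle of `SL(3, 2)` and the Frobenius map normalising it. -/
theorem exists_singer : ∃ C M : Matrix.SpecialLinearGroup (Fin 3) (ZMod 2),
    C ^ 7 = 1 ∧ M * C = C ^ 2 * M ∧ (C : Matrix (Fin 3) (Fin 3) (ZMod 2)) 1 0 = 1 :=
  ⟨⟨!![0, 0, 1; 1, 0, 1; 0, 1, 0], by decide⟩, ⟨!![1, 0, 0; 0, 0, 1; 0, 1, 1], by decide⟩,
    by decide, by decide, by decide⟩

/-- `PSL(3, 4)` has an element of order seven conjugate to its square. -/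
theorem psl_three_four_seven (hF : Fintype.card F = 4) :
    ∃ g h : Matrix.ProjectiveSpecialLinearGroup (Fin 3) F,
      orderOf h = 7 ∧ g * h * g⁻¹ = h ^ 2 := by
  haveI : Fact (Nat.Prime 2) := ⟨Nat.prime_two⟩
  haveI : Fact (Nat.Prime 7) := ⟨by norm_num⟩
  haveI : CharP F 2 := by
    haveI := charP_of_card_eq_prime_pow (R := F) (p := 2) (f := 2) (by rw [hF]; rfl)
    infer_instance
  obtain ⟨C₀, M₀, h7, hconj, h10⟩ := exists_singer
  let ψ := Matrix.SpecialLinearGroup.map (n := Fin 3) (ZMod.castHom (dvd_refl 2) F)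
  let π := QuotientGroup.mk' (Subgroup.center (Matrix.SpecialLinearGroup (Fin 3) F))
  refine ⟨π (ψ M₀), π (ψ C₀), orderOf_eq_prime (by rw [← map_pow, ← map_pow, h7, map_one, map_one]) ?_,
    mul_inv_eq_iff_eq_mul.2 ?_⟩
  · intro h
    obtain ⟨r, -, hr⟩ := mk_eq_one_iff_scalar.1 h
    have h0 := congrFun (congrFun hr 1) 0
    have h1 : ((ψ C₀ : Matrix.SpecialLinearGroup (Fin 3) F) : Matrix (Fin 3) (Fin 3) F) 1 0 = 1 := by
      show (ZMod.castHom (dvd_refl 2) F) ((C₀ : Matrix (Fin 3) (Fin 3) (ZMod 2)) 1 0) = 1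
      rw [h10, map_one]
    rw [h1] at h0
    simp at h0
  · rw [← map_mul, ← map_mul, hconj, map_mul, map_mul, map_pow, map_pow]

end Cfsg.Agent.CITConsumer
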