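import Cfsg.Agent.Lib.CIT.Defs
import Cfsg.Agent.Lib.PrimeGraph.ThreePrimes
import Cfsg.Agent.Lib.PCore.Basic
import Cfsg.Agent.Lib.Perm.MinimalNormal
import Cfsg.Agent.Lib.Solvable.Basic
import Cfsg.Agent.Lib.TICentralisers.Rigid

/-!
# Non-solvable CIT groups

A finite non-solvable CIT group has trivial odd core, and modulo its 2-core it is an almost
simple CIT group. If the socle has one class of involutions, the outer part is a 2-group.
-/

set_option autoImplicit false

namespace Cfsg.Agent.CITConsumer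

open Subgroup
open Cfsg.Agent.PrimeGraph (NonAdj)
open Cfsg.Agent.CIT (IsCIT)

variable {G : Type*} [Group G]

/-- In a CIT group `2` is adjacent to no odd prime. -/
theorem nonAdj_two [Finite G] (hG : IsCIT G) {r : ℕ} (hr : r.Prime) (h2 : r ≠ 2) :
    NonAdj G 2 r := by
  intro x hx
  have hd2 : orderOf (x ^ r) = 2 := by
    rw [orderOf_pow' _ hr.ne_zero, hx, Nat.gcd_mul_left_left, Nat.mul_div_cancel _ hr.pos]
  have hdr : orderOf (x ^ 2) = r := by
    rw [orderOf_pow' _ two_ne_zero, hx, Nat.gcd_mul_right_left, Nat.mul_div_cancel_left _ two_pos]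
  have h1 := CIT.eq_one_of_commute hG (x := x ^ 2) (t := x ^ r)
    (hdr.symm ▸ hr.odd_of_ne_two h2) hd2 ((Commute.refl x).pow_pow 2 r)
  rw [h1, orderOf_one] at hdr
  exact hr.ne_one hdr.symm

/-- The converse of `nonAdj_two`. -/
theorem isCIT_of_nonAdj [Finite G] (h : ∀ r : ℕ, r.Prime → r ≠ 2 → NonAdj G 2 r) : IsCIT G := by
  haveI : Fact (Nat.Prime 2) := ⟨Nat.prime_two⟩
  intro t ht
  refine IsPGroup.iff_orderOf.2 fun x => ?_
  refine ⟨_, Nat.eq_prime_pow_of_unique_prime_dvd (orderOf_pos x).ne' fun {r} hr hd => ?_⟩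
  by_contra h2
  have ho : orderOf ((x : G) ^ (orderOf x / r)) = r := by
    rw [← Subgroup.orderOf_coe] at hd ⊢
    exact orderOf_pow_orderOf_div (orderOf_pos _).ne' hd
  have hc : Commute t ((x : G) ^ (orderOf x / r)) :=
    (show Commute t (x : G) from (mem_centralizer_singleton_iff.1 x.2).symm).pow_right _
  refine h r hr h2 (t * (x : G) ^ (orderOf x / r)) ?_
  rw [hc.orderOf_mul_eq_mul_orderOf_of_coprime, ht, ho]
  rw [ht, ho]
  exact (Nat.coprime_primes Nat.prime_two hr).2 (Ne.symm h2)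

/-- Subgroups of CIT groups are CIT. -/
theorem isCIT_subgroup [Finite G] (hG : IsCIT G) (H : Subgroup G) : IsCIT H :=
  isCIT_of_nonAdj fun _ hr h2 => (nonAdj_two hG hr h2).subgroup H

/-- Quotients of CIT groups are CIT. -/
theorem isCIT_quotient [Finite G] (hG : IsCIT G) (N : Subgroup G) [N.Normal] : IsCIT (G ⧸ N) :=
  isCIT_of_nonAdj fun _ hr h2 => (nonAdj_two hG hr h2).quotient Nat.prime_two hr N

/-- In a CIT group every involution inverts a normal subgroup of odd order. -/
theorem inverts_of_odd [Finite G] (hG : IsCIT G) (N : Subgroup G) [N.Normal]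
    (hN : Odd (Nat.card N)) {t : G} (ht : orderOf t = 2) {w : G} (hw : w ∈ N) :
    t * w * t = w⁻¹ := by
  have htt : t * t = 1 := by rw [← sq, ← ht, pow_orderOf_eq_one]
  refine TICentralisers.inverts_of_fpf htt N (fun y hy => ?_) (fun y hy hc => ?_) w hw
  · have := Subgroup.Normal.conj_mem inferInstance y hy t
    rwa [inv_eq_of_mul_eq_one_right htt] at this
  · refine CIT.eq_one_of_commute hG ?_ ht hc
    have hd := orderOf_dvd_natCard (⟨y, hy⟩ : N)
    rw [Subgroup.orderOf_mk] at hd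
    exact hN.of_dvd_nat hd

/-- A non-solvable CIT group has no nontrivial normal subgroup of odd order. -/
theorem eq_bot_of_odd [Finite G] (hG : IsCIT G) (hns : ¬ Group.IsSolvable G) (N : Subgroup G)
    [hNn : N.Normal] (hN : Odd (Nat.card N)) : N = ⊥ := by
  haveI : Fact (Nat.Prime 2) := ⟨Nat.prime_two⟩
  by_contra hne
  have h2 : 2 ∣ Nat.card G := by
    by_contra h2
    exact hns (S0205.result (Nat.not_even_iff_odd.1 fun he => h2 he.two_dvd))
  obtain ⟨t, ht⟩ := exists_prime_orderOf_dvd_card' 2 h2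
  obtain ⟨w₀, hw₀, hw₀1⟩ := (Subgroup.ne_bot_iff_exists_ne_one).1 hne |>.elim
    fun a ha => (⟨(a : G), a.2, fun h => ha (Subtype.ext h)⟩ : ∃ w ∈ N, w ≠ 1)
  have htt : ∀ s : G, orderOf s = 2 → s * s = 1 := fun s hs => by
    rw [← sq, ← hs, pow_orderOf_eq_one]
  -- the centraliser of `N` has odd order
  set C := centralizer (N : Set G) with hC
  have hCodd : Odd (Nat.card C) := by
    refine Nat.not_even_iff_odd.1 fun he => ?_
    obtain ⟨s, hs⟩ := exists_prime_orderOf_dvd_card' 2 he.two_dvd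
    refine hw₀1 (CIT.eq_one_of_commute hG ?_ (by rw [Subgroup.orderOf_coe]; exact hs)
      (show Commute w₀ (s : G) from s.2 w₀ hw₀))
    have hd := orderOf_dvd_natCard (⟨w₀, hw₀⟩ : N)
    rw [Subgroup.orderOf_mk] at hd
    exact hN.of_dvd_nat hd
  haveI : Group.IsSolvable C := S0205.result hCodd
  -- every odd element lies in `C`
  have key : ∀ x : G, Odd (orderOf x) → x ∈ C := by
    intro x hx
    have hs : orderOf (x * t * x⁻¹) = 2 := by
      rw [show x * t * x⁻¹ = MulAut.conj x t from rfl, MulEquiv.orderOf_eq, ht]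
    have hd : (x * t * x⁻¹) * t ∈ C := fun w hw => by
      have e1 := inverts_of_odd hG N hN ht hw
      have e2 := inverts_of_odd hG N hN hs (N.inv_mem hw)
      rw [inv_inv] at e2
      set s := x * t * x⁻¹
      calc w * (s * t) = s * w⁻¹ * (s * s) * t := by conv_lhs => rw [← e2]
                                                     group
        _ = s * (t * w * t) * t := by rw [htt s hs, mul_one, e1]
        _ = s * t * w * (t * t) := by group
        _ = s * t * w := by rw [htt t ht, mul_one]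
    haveI : C.Normal := by rw [hC]; infer_instance
    -- modulo `C` the element `x` commutes with `t`
    let π := QuotientGroup.mk' C
    have hcom : Commute (π x) (π t) := by
      have h1 : π (x * t * x⁻¹ * t) = 1 := (QuotientGroup.eq_one_iff _).2 hd
      rw [map_mul, map_mul, map_mul, map_inv] at h1
      have h2 : π t * π t = 1 := by rw [← map_mul, htt t ht, map_one]
      have h3 : π x * π t * (π x)⁻¹ = π t := by
        rw [eq_inv_of_mul_eq_one_left h1, inv_eq_of_mul_eq_one_right h2]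
      exact mul_inv_eq_iff_eq_mul.1 h3
    have hto : orderOf (π t) = 2 := by
      refine orderOf_eq_prime (by rw [sq, ← map_mul, htt t ht, map_one]) fun h => ?_
      have htC : t ∈ C := (QuotientGroup.eq_one_iff _).1 h
      have hd' := orderOf_dvd_natCard (⟨t, htC⟩ : C)
      rw [Subgroup.orderOf_mk, ht] at hd'
      exact Nat.not_even_iff_odd.2 hCodd (even_iff_two_dvd.2 hd')
    exact (QuotientGroup.eq_one_iff _).1 (CIT.eq_one_of_commute (isCIT_quotient hG C)
      (hx.of_dvd_nat (orderOf_map_dvd π x)) hto hcom)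
  haveI : C.Normal := by rw [hC]; infer_instance
  have hQ : IsPGroup 2 (G ⧸ C) := by
    refine IsPGroup.of_card (n := _) (Nat.eq_prime_pow_of_unique_prime_dvd Nat.card_pos.ne'
      fun {r} hr hd => ?_)
    by_contra h2
    haveI : Fact r.Prime := ⟨hr⟩
    obtain ⟨y, hy⟩ := exists_prime_orderOf_dvd_card' r hd
    obtain ⟨x, rfl⟩ := QuotientGroup.mk'_surjective C y
    obtain ⟨a, m, hm, hxm⟩ := Nat.exists_eq_pow_mul_and_not_dvd (orderOf_pos x).ne' 2 (by omega)
    have hmem : x ^ (2 ^ a) ∈ C := key _ (by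
      rw [orderOf_pow' _ (by positivity), hxm, Nat.gcd_mul_right_left,
        Nat.mul_div_cancel_left _ (by positivity)]
      exact Nat.not_even_iff_odd.1 fun he => hm he.two_dvd)
    have h1 : (QuotientGroup.mk' C x) ^ (2 ^ a) = 1 := by
      rw [← map_pow]; exact (QuotientGroup.eq_one_iff _).2 hmem
    have hd' := orderOf_dvd_of_pow_eq_one h1
    rw [hy] at hd'
    exact h2 ((Nat.prime_dvd_prime_iff_eq hr Nat.prime_two).1 (hr.dvd_of_dvd_pow hd'))
  haveI : Group.IsSolvable (G ⧸ C) := by haveI := hQ.isNilpotent; infer_instance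
  exact hns (Group.isSolvable_of_ker_le_range C.subtype (QuotientGroup.mk' C) (by simp))

/-- Modulo the 2-core, a non-solvable CIT group has a simple socle. -/
theorem exists_socle [Finite G] (hG : IsCIT G) (hns : ¬ Group.IsSolvable G)
    (h2 : Cfsg.pCore 2 G = ⊥) :
    ∃ L : Subgroup G, L.Normal ∧ IsSimpleGroup L ∧ (∃ a b : L, a * b ≠ b * a) ∧ IsCIT L ∧
      centralizer (L : Set G) = ⊥ := by
  haveI : Fact (Nat.Prime 2) := ⟨Nat.prime_two⟩
  haveI : Nontrivial G := by
    by_contra h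
    haveI := not_nontrivial_iff_subsingleton.1 h
    exact hns inferInstance
  obtain ⟨L, hLn, -, hL, hmin⟩ := Solvable.exists_minimal_normal (K := (⊤ : Subgroup G))
    top_ne_bot
  have hnc : ¬ IsMulCommutative L := by
    intro hc
    obtain ⟨p, hp, hexp⟩ := Perm.exists_prime_exponent_of_abelian_minimal L hL hmin
    haveI : Fact p.Prime := ⟨hp⟩
    have hLp : IsPGroup p L := fun x => ⟨1, Subtype.ext (by simpa using hexp x x.2)⟩
    by_cases hp2 : p = 2
    · subst hp2
      exact hL (eq_bot_iff.2 (h2 ▸ PCore.le_pCore hLp))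
    · obtain ⟨k, hk⟩ := IsPGroup.iff_card.1 hLp
      exact hL (eq_bot_of_odd hG hns L (hk ▸ (hp.odd_of_ne_two hp2).pow))
  obtain ⟨T, hT⟩ := Socle.exists_factors L hL hmin hnc
  obtain ⟨T₀, hT₀⟩ := hT.nonempty
  have hne : ∀ S ∈ T, ∃ a b : S, a * b ≠ b * a := fun S hS => by
    by_contra h
    exact hT.nonabelian S hS ⟨⟨fun a b => by_contra fun hab => h ⟨a, b, hab⟩⟩⟩
  have huniq : ∀ S ∈ T, S = T₀ := by
    intro S hS
    by_contra hne'
    haveI := hT.simple T₀ hT₀
    haveI := hT.simple S hS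
    obtain ⟨t, ht⟩ := exists_prime_orderOf_dvd_card' 2
      (CIT.two_dvd_card (hne T₀ hT₀))
    have hnp : ¬ IsPGroup 2 S := fun hp => by
      haveI : Group.IsSolvable S := by haveI := hp.isNilpotent; infer_instance
      obtain ⟨a, b, hab⟩ := hne S hS
      exact hab (IsSimpleGroup.comm_iff_isSolvable.2 inferInstance a b)
    obtain ⟨r, hr, hr2, hrd⟩ : ∃ r : ℕ, r.Prime ∧ r ≠ 2 ∧ r ∣ Nat.card S := by
      by_contra h
      exact hnp (IsPGroup.of_card (n := _) (Nat.eq_prime_pow_of_unique_prime_dvd Nat.card_pos.ne'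
        fun {d} hd hdd => by_contra fun hd2 => h ⟨d, hd, hd2, hdd⟩))
    haveI : Fact r.Prime := ⟨hr⟩
    obtain ⟨s, hs⟩ := exists_prime_orderOf_dvd_card' r hrd
    have hc : Commute (s : G) (t : G) := hT.comm S hS T₀ hT₀ hne' s s.2 t t.2
    have h1 := CIT.eq_one_of_commute hG (x := (s : G)) (t := (t : G))
      (by rw [Subgroup.orderOf_coe, hs]; exact hr.odd_of_ne_two hr2)
      (by rw [Subgroup.orderOf_coe, ht]) hc
    rw [OneMemClass.coe_eq_one] at h1
    exact hr.ne_one (hs.symm.trans (orderOf_eq_one_iff.2 h1))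
  have hLT : L = T₀ := by
    rw [← hT.sSup_eq]
    exact le_antisymm (sSup_le fun S hS => (huniq S hS).le) (le_sSup hT₀)
  subst hLT
  haveI := hT.simple L hT₀
  refine ⟨L, hLn, hT.simple L hT₀, hne L hT₀, isCIT_subgroup hG L, ?_⟩
  haveI : (centralizer (L : Set G)).Normal := inferInstance
  refine eq_bot_iff.2 (h2 ▸ PCore.le_pCore ?_)
  obtain ⟨t, ht⟩ := exists_prime_orderOf_dvd_card' 2 (CIT.two_dvd_card (G := L) (hne L hT₀))
  refine (hG (t : G) (by rw [Subgroup.orderOf_coe, ht])).to_le fun x hx => ?_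
  exact mem_centralizer_singleton_iff.2 (hx t t.2).symm

/-- If the socle has one class of involutions, the quotient by it is a 2-group. -/
theorem isPGroup_outer [Finite G] (hG : IsCIT G) {L : Subgroup G} [L.Normal]
    (h2 : 2 ∣ Nat.card L)
    (hconj : ∀ a b : L, orderOf a = 2 → orderOf b = 2 → IsConj a b) : IsPGroup 2 (G ⧸ L) := by
  haveI : Fact (Nat.Prime 2) := ⟨Nat.prime_two⟩
  obtain ⟨t, ht⟩ := exists_prime_orderOf_dvd_card' 2 h2
  intro y
  obtain ⟨x, rfl⟩ := QuotientGroup.mk'_surjective L y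
  have hs : orderOf (⟨x * t * x⁻¹, Subgroup.Normal.conj_mem inferInstance _ t.2 x⟩ : L) = 2 := by
    rw [Subgroup.orderOf_mk, show x * (t : G) * x⁻¹ = MulAut.conj x (t : G) from rfl,
      MulEquiv.orderOf_eq, Subgroup.orderOf_coe, ht]
  obtain ⟨l, hl⟩ := isConj_iff.1 (hconj t _ ht hs)
  have hl' : (l : G) * t * (l : G)⁻¹ = x * t * x⁻¹ := congrArg Subtype.val hl
  have hmem : (l : G)⁻¹ * x ∈ centralizer ({(t : G)} : Set G) := by
    rw [mem_centralizer_singleton_iff]
    calc (l : G)⁻¹ * x * t = (l : G)⁻¹ * (x * t * x⁻¹) * x := by group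
      _ = t * ((l : G)⁻¹ * x) := by rw [← hl']; group
  obtain ⟨k, hk⟩ := hG (t : G) (by rw [Subgroup.orderOf_coe, ht]) ⟨_, hmem⟩
  refine ⟨k, ?_⟩
  have he : QuotientGroup.mk' L x = QuotientGroup.mk' L ((l : G)⁻¹ * x) := by
    rw [map_mul, map_inv, show QuotientGroup.mk' L (l : G) = 1 from
      (QuotientGroup.eq_one_iff _).2 l.2, inv_one, one_mul]
  rw [he, ← map_pow, show ((l : G)⁻¹ * x) ^ 2 ^ k = 1 from congrArg Subtype.val hk, map_one]

/-- An odd prime dividing the order of a group divides the order of a normal subgroup with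
2-power index. -/
theorem dvd_card_of_outer [Finite G] {L : Subgroup G} [L.Normal] (hL : IsPGroup 2 (G ⧸ L))
    {r : ℕ} (hr : r.Prime) (h2 : r ≠ 2) (hd : r ∣ Nat.card G) : r ∣ Nat.card L := by
  haveI : Fact (Nat.Prime 2) := ⟨Nat.prime_two⟩
  obtain ⟨k, hk⟩ := IsPGroup.iff_card.1 hL
  rw [L.card_eq_card_quotient_mul_card_subgroup, hk] at hd
  exact (hr.dvd_mul.1 hd).resolve_left fun h =>
    h2 ((Nat.prime_dvd_prime_iff_eq hr Nat.prime_two).1 (hr.dvd_of_dvd_pow h))

/-- An odd prime dividing the order of a group divides the order of the quotient by the 2-core. -/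
theorem dvd_card_quotient_pCore [Finite G] {r : ℕ} (hr : r.Prime) (h2 : r ≠ 2)
    (hd : r ∣ Nat.card G) : r ∣ Nat.card (G ⧸ Cfsg.pCore 2 G) := by
  haveI : Fact (Nat.Prime 2) := ⟨Nat.prime_two⟩
  obtain ⟨k, hk⟩ := PCore.exists_card_pCore (p := 2) (G := G)
  rw [(Cfsg.pCore 2 G).card_eq_card_quotient_mul_card_subgroup, hk] at hd
  exact (hr.dvd_mul.1 hd).resolve_right fun h =>
    h2 ((Nat.prime_dvd_prime_iff_eq hr Nat.prime_two).1 (hr.dvd_of_dvd_pow h))

/-- The quotient by the 2-core of a non-solvable group is non-solvable. -/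
theorem not_isSolvable_quotient_pCore [Finite G] (hns : ¬ Group.IsSolvable G) :
    ¬ Group.IsSolvable (G ⧸ Cfsg.pCore 2 G) := by
  intro h
  haveI : Fact (Nat.Prime 2) := ⟨Nat.prime_two⟩
  haveI : Group.IsSolvable (Cfsg.pCore 2 G) := by
    haveI := (PCore.isPGroup_pCore (p := 2) (G := G)).isNilpotent
    infer_instance
  exact hns (Group.isSolvable_of_ker_le_range (Cfsg.pCore 2 G).subtype
    (QuotientGroup.mk' (Cfsg.pCore 2 G)) (by simp))

end Cfsg.Agent.CITConsumer
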