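import Cfsg.Agent.Lib.Sz.Aut
import Cfsg.Agent.Lib.Sz.Real
import Cfsg.Agent.Lib.Sz.Lie

/-!
# A group with a self-centralising normal Suzuki subgroup of 2-power index
-/

set_option autoImplicit false

namespace Cfsg.Agent.CITConsumer

variable {F : Type*} [Field F] [Fintype F] {m : ℕ}

/-- The involutions of a Suzuki group are conjugate. -/
theorem sz_involutions_isConj {L : Type*} [Group L] (hm : 1 ≤ m)
    (hF : Fintype.card F = 2 ^ (2 * m + 1)) (e : L ≃* ↥(Cfsg.Lie.Sz F (2 ^ (m + 1)))) {a b : L}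
    (ha : orderOf a = 2) (hb : orderOf b = 2) : IsConj a b := by
  let f := e.trans (SZ.szEquiv hm hF).symm
  suffices key : ∀ c : L, orderOf c = 2 → IsConj (f.symm (SZ.tS hF 0 1)) c from
    (key a ha).symm.trans (key b hb)
  intro c hc
  have h2 : orderOf (f c) = 2 := by rw [MulEquiv.orderOf_eq, hc]
  obtain ⟨g, hg⟩ := SZ.exists_conj_involution hm hF (x := f c)
    (by rw [← sq, ← h2, pow_orderOf_eq_one]) (fun h => by rw [h, orderOf_one] at h2; omega)
  refine isConj_iff.2 ⟨f.symm g, f.injective ?_⟩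
  simp [hg]

/-- A self-centralising normal Suzuki subgroup with 2-power index is the whole group. -/
theorem eq_top_of_suzuki {H : Type*} [Group H] [Finite H] (L : Subgroup H) [L.Normal]
    (hC : Subgroup.centralizer (L : Set H) = ⊥) (hout : IsPGroup 2 (H ⧸ L)) (hm : 1 ≤ m)
    (hF : Fintype.card F = 2 ^ (2 * m + 1)) (e : L ≃* ↥(Cfsg.Lie.Sz F (2 ^ (m + 1)))) : L = ⊤ := by
  let f := e.trans (SZ.szEquiv hm hF).symm
  let ψ : H →* MulAut (Cfsg.Sz F m) :=
    (MulAut.congr f).toMonoidHom.comp (MulAut.conjNormal (H := L))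
  let I := (MulAut.conj : Cfsg.Sz F m →* MulAut (Cfsg.Sz F m)).range
  haveI : I.Normal := ⟨by
    rintro _ ⟨g, rfl⟩ α
    refine ⟨α g, ?_⟩
    ext z
    simp [MulAut.conj_apply]⟩
  rw [eq_top_iff]
  intro x _
  obtain ⟨k, hk⟩ := hout (QuotientGroup.mk' L x)
  rw [← map_pow, QuotientGroup.mk'_apply, QuotientGroup.eq_one_iff] at hk
  have hsurj : ∀ l : L, ψ (l : H) = MulAut.conj (f l) := fun l => by
    ext z : 1
    show f (MulAut.conjNormal (l : H) (f.symm z)) = f l * z * (f l)⁻¹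
    rw [show MulAut.conjNormal (l : H) (f.symm z) = l * f.symm z * l⁻¹ from Subtype.ext (by simp),
      map_mul, map_mul, map_inv, MulEquiv.apply_symm_apply]
  have h1 : (QuotientGroup.mk' I (ψ x)) ^ (2 ^ k) = 1 := by
    rw [← map_pow, ← map_pow]
    exact (QuotientGroup.eq_one_iff _).2 ⟨_, (hsurj ⟨_, hk⟩).symm⟩
  have h2 : (QuotientGroup.mk' I (ψ x)) ^ (2 * m + 1) = 1 := by
    rw [← SZ.card_ringAut (F := F) hF, ← SZ.card_out hm hF]
    exact pow_card_eq_one'
  have h3 : QuotientGroup.mk' I (ψ x) = 1 := by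
    have := pow_gcd_eq_one.2 ⟨h1, h2⟩
    rwa [Nat.Coprime.pow_left k (Nat.coprime_two_left.2 ⟨m, rfl⟩) , pow_one] at this
  obtain ⟨g, hg⟩ := (QuotientGroup.eq_one_iff _).1 h3
  have hmem : (f.symm g : H)⁻¹ * x ∈ Subgroup.centralizer (L : Set H) := by
    intro l hl
    have h' : g * f ⟨l, hl⟩ * g⁻¹ = f (MulAut.conjNormal x ⟨l, hl⟩) := by
      have := DFunLike.congr_fun hg (f ⟨l, hl⟩)
      rw [MulAut.conj_apply] at this
      refine this.trans ?_
      show f (MulAut.conjNormal x (f.symm (f ⟨l, hl⟩))) = _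
      rw [MulEquiv.symm_apply_apply]
    have h'' : f.symm g * ⟨l, hl⟩ * (f.symm g)⁻¹ = MulAut.conjNormal x ⟨l, hl⟩ := f.injective (by
      rw [map_mul, map_mul, map_inv, MulEquiv.apply_symm_apply, h'])
    have h3' : (f.symm g : H) * l * (f.symm g : H)⁻¹ = x * l * x⁻¹ := by
      have := congrArg Subtype.val h''
      simpa using this
    calc l * ((f.symm g : H)⁻¹ * x) = (f.symm g : H)⁻¹ * ((f.symm g : H) * l * (f.symm g : H)⁻¹) * x := by group
      _ = (f.symm g : H)⁻¹ * x * l := by rw [h3']; group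
  rw [hC, Subgroup.mem_bot] at hmem
  rw [inv_mul_eq_one] at hmem
  exact hmem ▸ (f.symm g).2

omit [Field F] [Fintype F] in
/-- A field isomorphism maps the defining elements of a Suzuki group to such elements. -/
theorem mem_gen_map {A B : Type*} [Field A] [Field B] {k : ℕ} (τ : A ≃+* B) (g : GL (Fin 4) A)
    (hg : g ∈ Cfsg.Lie.Sp4 A) (hs : Cfsg.Lie.star4 (g : Matrix (Fin 4) (Fin 4) A) =
      (g : Matrix (Fin 4) (Fin 4) A).map (fun x => x ^ k)) :
    Units.map τ.toRingHom.mapMatrix.toMonoidHom g ∈ Cfsg.Lie.Sp4 B ∧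
      Cfsg.Lie.star4 ((Units.map τ.toRingHom.mapMatrix.toMonoidHom g : GL (Fin 4) B) : Matrix _ _ B) =
        ((Units.map τ.toRingHom.mapMatrix.toMonoidHom g : GL (Fin 4) B) : Matrix _ _ B).map
          (fun x => x ^ k) := by
  refine ⟨fun u v => ?_, ?_⟩
  · have h := congrArg τ (hg (τ.symm ∘ u) (τ.symm ∘ v))
    simp only [Cfsg.Lie.altForm4, Matrix.mulVec, dotProduct, Fin.sum_univ_four, map_add, map_mul,
      Function.comp_apply, RingEquiv.apply_symm_apply] at h
    simpa [Cfsg.Lie.altForm4, Matrix.mulVec, dotProduct, Fin.sum_univ_four] using h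
  · ext i j
    have h := congrArg τ (congrFun (congrFun hs i) j)
    simpa [Cfsg.Lie.star4] using h

/-- Suzuki groups over fields of the same order are isomorphic. -/
theorem lieSz_congr {K : Type*} [Field K] [Fintype K] (_hm : 1 ≤ m)
    (hK : Fintype.card K = 2 ^ (2 * m + 1)) (hF : Fintype.card F = 2 ^ (2 * m + 1)) :
    Nonempty (↥(Cfsg.Lie.Sz K (2 ^ (m + 1))) ≃* ↥(Cfsg.Lie.Sz F (2 ^ (m + 1)))) := by
  obtain ⟨σ⟩ : Nonempty (K ≃+* F) := ⟨FiniteField.ringEquivOfCardEq (hK.trans hF.symm)⟩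
  let f : GL (Fin 4) K →* GL (Fin 4) F := Units.map σ.toRingHom.mapMatrix.toMonoidHom
  have hf : Function.Injective f := Units.map_injective fun a b h => by
    ext i j
    exact σ.injective (congrFun (congrFun h i) j)
  have hle : (Cfsg.Lie.Sz K (2 ^ (m + 1))).map f = Cfsg.Lie.Sz F (2 ^ (m + 1)) := by
    generalize 2 ^ (m + 1) = k
    have hback : ∀ g : GL (Fin 4) F,
        f (Units.map σ.symm.toRingHom.mapMatrix.toMonoidHom g) = g := fun g => by
      apply Units.ext
      ext i j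
      simp [f]
    unfold Cfsg.Lie.Sz
    rw [MonoidHom.map_closure]
    refine congrArg Subgroup.closure (Set.ext fun g => ⟨?_, ?_⟩)
    · intro hg
      obtain ⟨x, hx, hxg⟩ := hg
      rw [← hxg]
      exact mem_gen_map (A := K) (B := F) (k := k) σ x hx.1 hx.2
    · intro hg
      have h1 := mem_gen_map (A := F) (B := K) (k := k) σ.symm g hg.1 hg.2
      exact ⟨_, h1, hback g⟩
  exact ⟨((Cfsg.Lie.Sz K (2 ^ (m + 1))).equivMapOfInjective f hf).trans (MulEquiv.subgroupCongr hle)⟩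

end Cfsg.Agent.CITConsumer
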