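import Cfsg.Prelude.Def_Sz
import Cfsg.Agent.Lib.CITConsumer.Reduce
import Cfsg.Agent.Lib.CITConsumer.Involutions
import Cfsg.Agent.Lib.CITConsumer.L34Facts
import Cfsg.Agent.Lib.CITConsumer.SuzukiFacts
import Cfsg.Agent.Lib.PComplement.FixedPointFree
import Cfsg.Agent.Lib.Coprime.Generation
import Cfsg.Agent.Lib.GL.Basic
import Cfsg.Agent.Lib.PSL2.Basic

/-!
# Groups all of whose elements have prime power order: at most four primes
-/

set_option autoImplicit false

namespace Cfsg.Agent.CITConsumer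

open Subgroup
open Cfsg.Agent.PrimeGraph (NonAdj)
open Cfsg.Agent.CIT (IsCIT)

universe u

/-- Every nontrivial element has prime power order. -/
def EPPO (G : Type*) [Group G] : Prop := ∀ g : G, g ≠ 1 → IsPrimePow (orderOf g)

/-- The simple groups all of whose elements have prime power order. -/
def EPPOSimple : Prop :=
  ∀ (G : Type u) [Group G] [Finite G] [IsSimpleGroup G], ¬ IsMulCommutative G → EPPO G →
    Nonempty (G ≃* alternatingGroup (Fin 6)) ∨
    (∃ (F : Type) (_ : Field F) (_ : Fintype F), Fintype.card F ∈ ({4, 7, 8, 17} : Finset ℕ) ∧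
      Nonempty (G ≃* Matrix.ProjectiveSpecialLinearGroup (Fin 2) F)) ∨
    (∃ (F : Type) (_ : Field F) (_ : Fintype F), Fintype.card F = 4 ∧
      Nonempty (G ≃* Matrix.ProjectiveSpecialLinearGroup (Fin 3) F)) ∨
    (∃ (F : Type) (_ : Field F) (_ : Fintype F),
      (Fintype.card F = 8 ∧ Nonempty (G ≃* ↥(Cfsg.Lie.Sz F 4))) ∨
      (Fintype.card F = 32 ∧ Nonempty (G ≃* ↥(Cfsg.Lie.Sz F 8))))

variable {G : Type u} [Group G]

theorem EPPO.subgroup (h : EPPO G) (H : Subgroup G) : EPPO H := fun x hx => by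
  rw [← Subgroup.orderOf_coe]
  exact h x fun e => hx (Subtype.ext e)

theorem EPPO.quotient [Finite G] (h : EPPO G) (N : Subgroup G) [N.Normal] : EPPO (G ⧸ N) := by
  intro y hy
  obtain ⟨x, rfl⟩ := QuotientGroup.mk'_surjective N y
  exact (h x fun e => hy (by rw [e, map_one])).dvd (orderOf_map_dvd _ x)
    (fun e => hy (orderOf_eq_one_iff.1 e))

theorem EPPO.dvd_unique [Finite G] (h : EPPO G) {x : G} {p q : ℕ} (hp : p.Prime) (hq : q.Prime)
    (hpx : p ∣ orderOf x) (hqx : q ∣ orderOf x) : p = q := by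
  have hx : x ≠ 1 := fun e => hp.ne_one (Nat.dvd_one.1 (orderOf_eq_one_iff.2 e ▸ hpx))
  obtain ⟨r, k, hr, -, e⟩ := h x hx
  rw [← e] at hpx hqx
  have hr' := Nat.prime_iff.2 hr
  exact ((Nat.prime_dvd_prime_iff_eq hp hr').1 (hp.dvd_of_dvd_pow hpx)).trans
    ((Nat.prime_dvd_prime_iff_eq hq hr').1 (hq.dvd_of_dvd_pow hqx)).symm

theorem EPPO.nonAdj [Finite G] (h : EPPO G) {p q : ℕ} (hp : p.Prime) (hq : q.Prime) (hpq : p ≠ q) :
    NonAdj G p q := fun _ hx =>
  hpq (h.dvd_unique hp hq (hx ▸ dvd_mul_right p q) (hx ▸ dvd_mul_left q p))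

/-- At most three primes divide `2 ^ a * p ^ b * r ^ c`. -/
theorem card_primeFactors_le_three {N a p b r c : ℕ} (hp : p.Prime) (hr : r.Prime)
    (hN : N = 2 ^ a * p ^ b * r ^ c) : N.primeFactors.card ≤ 3 := by
  refine (Finset.card_le_card (fun d hd => ?_)).trans (Finset.card_le_three (a := 2) (b := p) (c := r))
  obtain ⟨hd, hdN, -⟩ := Nat.mem_primeFactors.1 hd
  rw [hN] at hdN
  simp only [Finset.mem_insert, Finset.mem_singleton]
  rcases hd.dvd_mul.1 hdN with h | h
  · rcases hd.dvd_mul.1 h with h | h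
    · exact Or.inl ((Nat.prime_dvd_prime_iff_eq hd Nat.prime_two).1 (hd.dvd_of_dvd_pow h))
    · exact Or.inr (Or.inl ((Nat.prime_dvd_prime_iff_eq hd hp).1 (hd.dvd_of_dvd_pow h)))
  · exact Or.inr (Or.inr ((Nat.prime_dvd_prime_iff_eq hd hr).1 (hd.dvd_of_dvd_pow h)))

/-- At most four primes divide `2 ^ a * p ^ b * r ^ c * s ^ d`. -/
theorem card_primeFactors_le_four {N a p b r c s d : ℕ} (hp : p.Prime) (hr : r.Prime) (hs : s.Prime)
    (hN : N = 2 ^ a * p ^ b * r ^ c * s ^ d) : N.primeFactors.card ≤ 4 := by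
  refine (Finset.card_le_card (fun d hd => ?_)).trans
    (Finset.card_le_four (a := 2) (b := p) (c := r) (d := s))
  obtain ⟨hd, hdN, -⟩ := Nat.mem_primeFactors.1 hd
  rw [hN] at hdN
  simp only [Finset.mem_insert, Finset.mem_singleton]
  rcases hd.dvd_mul.1 hdN with h | h
  · rcases hd.dvd_mul.1 h with h | h
    · rcases hd.dvd_mul.1 h with h | h
      · exact Or.inl ((Nat.prime_dvd_prime_iff_eq hd Nat.prime_two).1 (hd.dvd_of_dvd_pow h))
      · exact Or.inr (Or.inl ((Nat.prime_dvd_prime_iff_eq hd hp).1 (hd.dvd_of_dvd_pow h)))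
    · exact Or.inr (Or.inr (Or.inl ((Nat.prime_dvd_prime_iff_eq hd hr).1 (hd.dvd_of_dvd_pow h))))
  · exact Or.inr (Or.inr (Or.inr ((Nat.prime_dvd_prime_iff_eq hd hs).1 (hd.dvd_of_dvd_pow h))))

/-- A solvable EPPO group has at most two primes. -/
theorem EPPO.card_primeFactors_le_two [Finite G] (h : EPPO G) [Group.IsSolvable G] :
    (Nat.card G).primeFactors.card ≤ 2 := by
  by_contra hc
  push Not at hc
  obtain ⟨p, q, r, hp, hq, hr, hpq, hpr, hqr⟩ := Finset.two_lt_card_iff.1 hc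
  obtain ⟨hp, hpG, -⟩ := Nat.mem_primeFactors.1 hp
  obtain ⟨hq, hqG, -⟩ := Nat.mem_primeFactors.1 hq
  obtain ⟨hr, hrG, -⟩ := Nat.mem_primeFactors.1 hr
  exact PrimeGraph.three_primes hp hq hr hpq hpr hqr hpG hqG hrG (h.nonAdj hp hq hpq)
    (h.nonAdj hp hr hpr) (h.nonAdj hq hr hqr)

/-- The primes of an almost simple EPPO group are those of its socle. -/
theorem EPPO.dvd_socle [Finite G] (h : EPPO G) (L : Subgroup G) [L.Normal]
    (hL : ¬ Group.IsSolvable L) {r : ℕ} (hr : r.Prime) (hd : r ∣ Nat.card G) : r ∣ Nat.card L := by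
  by_contra hrL
  haveI : Fact r.Prime := ⟨hr⟩
  obtain ⟨x, hx⟩ := exists_prime_orderOf_dvd_card' r hd
  have hfix : L ⊓ centralizer ({x} : Set G) = ⊥ := by
    by_contra hne
    obtain ⟨d, hd, hdd⟩ := Nat.exists_prime_and_dvd
      (fun e => hne (Subgroup.eq_bot_of_card_eq _ e))
    haveI : Fact d.Prime := ⟨hd⟩
    obtain ⟨y, hy⟩ := exists_prime_orderOf_dvd_card' d hdd
    have hne' : r ≠ d := fun e => hrL (e ▸ hdd.trans (Subgroup.card_dvd_of_le inf_le_left))
    have hc : Commute x (y : G) := (mem_centralizer_singleton_iff.1 y.2.2).symm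
    refine h.nonAdj hr hd hne' (x * (y : G)) ?_
    rw [hc.orderOf_mul_eq_mul_orderOf_of_coprime, hx, Subgroup.orderOf_coe, hy]
    rw [hx, Subgroup.orderOf_coe, hy]
    exact (Nat.coprime_primes hr hd).2 hne'
  haveI : Group.IsNilpotent L := by
    refine PComplement.isNilpotent_of_fpf (p := r) L (MulAut.conjNormal x) ?_ fun g hg => ?_
    · rw [← map_pow, ← hx, pow_orderOf_eq_one, map_one]
    · have h1 : x * (g : G) * x⁻¹ = g := by simpa using congrArg Subtype.val hg
      refine Subtype.ext (Subgroup.mem_bot.1 (hfix ▸ (⟨g.2, ?_⟩ : (g : G) ∈ L ⊓ centralizer ({x} : Set G))))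
      exact mem_centralizer_singleton_iff.2 (mul_inv_eq_iff_eq_mul.1 h1).symm
  exact hL inferInstance

/-- Powers of a conjugation acting on a cyclic subgroup. -/
theorem conj_pow_eq {x h : G} {j : ℕ} (hj : x * h * x⁻¹ = h ^ j) (n : ℕ) :
    x ^ n * h * (x ^ n)⁻¹ = h ^ j ^ n := by
  induction n with
  | zero => simp
  | succ n ih =>
    rw [pow_succ' x, mul_inv_rev, show x * x ^ n * h * ((x ^ n)⁻¹ * x⁻¹) =
      x * (x ^ n * h * (x ^ n)⁻¹) * x⁻¹ by group, ih, ← conj_pow, hj, ← pow_mul, pow_succ']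

/-- Arithmetic modulo seven. -/
theorem zmod_seven_facts :
    (∀ y : ZMod 7, y ^ 6 = 1 → y ^ 2 = 1 → y ≠ 1 → y = 6) ∧ (6 : ZMod 7) * 2 = 5 ∧
      (0 : ZMod 7) ≠ 1 ∧ (5 : ZMod 7) ^ 6 = 1 ∧
      ∀ i : ℕ, i < 6 → 0 < i → (5 : ZMod 7) ^ i ≠ 1 := by
  refine ⟨by decide, by decide, by decide, by decide, fun i hi hi0 => ?_⟩
  interval_cases i <;> decide

/-- An almost simple EPPO group with socle `PSL(3, 4)` is `PSL(3, 4)`. -/
theorem EPPO.eq_top_of_psl34 [Finite G] (h : EPPO G) (L : Subgroup G) [L.Normal]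
    (hout : IsPGroup 2 (G ⧸ L)) {F : Type*} [Field F] [Fintype F] (hF : Fintype.card F = 4)
    (e : L ≃* Matrix.ProjectiveSpecialLinearGroup (Fin 3) F) (hcard : Nat.card L = 20160) :
    L = ⊤ := by
  haveI : Fact (Nat.Prime 7) := ⟨by norm_num⟩
  haveI : Fact (Nat.Prime 2) := ⟨Nat.prime_two⟩
  obtain ⟨g₀, h₀, hh₀, hconj⟩ := psl_three_four_seven hF
  set g : L := e.symm g₀
  set c : L := e.symm h₀
  have hc : orderOf c = 7 := by rw [MulEquiv.orderOf_eq, hh₀]
  have hgc : g * c * g⁻¹ = c ^ 2 := e.injective (by simp [g, c, hconj])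
  let P : Sylow 7 L := Sylow.ofCard (zpowers c) (by
    rw [Nat.card_zpowers, hc, hcard, show (20160 : ℕ) = 7 ^ 1 * 2880 by norm_num,
      Nat.factorization_mul (by norm_num) (by norm_num), Finsupp.add_apply,
      Nat.Prime.factorization_pow (by norm_num), Finsupp.single_eq_same,
      Nat.factorization_eq_zero_of_not_dvd (n := 2880) (by norm_num), add_zero, pow_one])
  have hfr := Sylow.normalizer_sup_eq_top P
  rw [Sylow.coe_ofCard, MonoidHom.map_zpowers] at hfr
  rw [eq_top_iff]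
  intro z _
  by_contra hz
  obtain ⟨w, hw, l, hl, rfl⟩ := Subgroup.mem_sup_of_normal_right.1
    (hfr ▸ Subgroup.mem_top z : z ∈ normalizer (zpowers (L.subtype c) : Set G) ⊔ L)
  have hwL : w ∉ L := fun hh => hz (mul_mem hh hl)
  obtain ⟨a, m, hm, hwm⟩ := Nat.exists_eq_pow_mul_and_not_dvd (orderOf_pos w).ne' 2 (by omega)
  -- the 2-part of `w`
  set x := w ^ m with hx
  have hxL : x ∉ L := fun hh => by
    obtain ⟨k, hk⟩ := hout (QuotientGroup.mk' L w)
    have h1 : (QuotientGroup.mk' L w) ^ m = 1 := by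
      rw [← map_pow]; exact (QuotientGroup.eq_one_iff _).2 hh
    have := pow_gcd_eq_one.2 ⟨hk, h1⟩
    rw [Nat.Coprime.pow_left k ((Nat.Prime.coprime_iff_not_dvd Nat.prime_two).2 hm), pow_one] at this
    exact hwL ((QuotientGroup.eq_one_iff _).1 this)
  have hxN : x ∈ normalizer (zpowers (c : G) : Set G) := pow_mem hw m
  obtain ⟨j, hj⟩ := (isOfFinOrder_of_finite _).mem_powers_iff_mem_zpowers.2
    ((mem_normalizer_iff.1 hxN (c : G)).1 (mem_zpowers _))
  have hj' : x * (c : G) * x⁻¹ = (c : G) ^ j := hj.symm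
  have hcG : orderOf (c : G) = 7 := by rw [Subgroup.orderOf_coe, hc]
  have hxo : x ^ 2 ^ a = 1 := by
    rw [hx, ← pow_mul, mul_comm, ← hwm, pow_orderOf_eq_one]
  have hja : (j : ZMod 7) ^ 2 ^ a = 1 := by
    have := conj_pow_eq hj' (2 ^ a)
    rw [hxo, inv_one, one_mul, mul_one] at this
    have h1 : (c : G) ^ 1 = (c : G) ^ j ^ 2 ^ a := by rw [pow_one]; exact this
    rw [pow_eq_pow_iff_modEq, hcG, ← ZMod.natCast_eq_natCast_iff] at h1
    push_cast at h1
    exact h1.symm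
  have hj1 : (j : ZMod 7) ≠ 1 := by
    intro hj1
    have hmod : (c : G) ^ j = (c : G) ^ 1 := by
      rw [pow_eq_pow_iff_modEq, hcG, ← ZMod.natCast_eq_natCast_iff]
      simpa using hj1
    rw [hmod, pow_one, mul_inv_eq_iff_eq_mul] at hj'
    have hx1 : x ≠ 1 := fun hh => hxL (hh ▸ L.one_mem)
    have h2d : 2 ∣ orderOf x := by
      obtain ⟨i, -, hi⟩ := (Nat.dvd_prime_pow Nat.prime_two).1 (orderOf_dvd_of_pow_eq_one hxo)
      rcases i with _ | i
      · exact absurd (orderOf_eq_one_iff.1 (hi.trans (pow_zero 2))) hx1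
      · exact hi ▸ dvd_pow_self 2 i.succ_ne_zero
    refine h.nonAdj Nat.prime_two (Fact.out : (7 : ℕ).Prime) (by norm_num)
      (x ^ (orderOf x / 2) * (c : G)) ?_
    have hc2 : Commute (x ^ (orderOf x / 2)) (c : G) := (show Commute x (c : G) from hj').pow_left _
    rw [hc2.orderOf_mul_eq_mul_orderOf_of_coprime, orderOf_pow_orderOf_div (orderOf_pos x).ne' h2d, hcG]
    rw [orderOf_pow_orderOf_div (orderOf_pos x).ne' h2d, hcG]
    norm_num
  obtain ⟨hunit, h62, h01, h56, h5i⟩ := zmod_seven_facts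
  have hj6 : (j : ZMod 7) = 6 := by
    have h6 : (j : ZMod 7) ^ 6 = 1 := by
      refine ZMod.pow_card_sub_one_eq_one fun h0 => ?_
      rw [h0, zero_pow (by positivity)] at hja
      exact h01 hja
    refine hunit _ h6 ?_ hj1
    have hg := pow_gcd_eq_one.2 ⟨h6, hja⟩
    obtain ⟨i, -, hi⟩ := (Nat.dvd_prime_pow Nat.prime_two).1 (Nat.gcd_dvd_right 6 (2 ^ a))
    rw [hi] at hg
    have h2i : 2 ^ i ∣ 6 := hi ▸ Nat.gcd_dvd_left 6 (2 ^ a)
    rcases i with _ | _ | i
    · rw [pow_zero, pow_one] at hg; rw [hg, one_pow]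
    · simpa using hg
    · have h4 : (2 : ℕ) ^ 2 ∣ 6 := (pow_dvd_pow 2 (by omega : 2 ≤ i + 2)).trans h2i
      norm_num at h4
  -- `x g` induces an automorphism of order six
  have hg' : (g : G) * c * (g : G)⁻¹ = (c : G) ^ 2 := by
    have := congrArg Subtype.val hgc
    simpa using this
  have hxg : (x * g) * (c : G) * (x * g)⁻¹ = (c : G) ^ (j * 2) := by
    rw [mul_inv_rev, show x * g * (c : G) * ((g : G)⁻¹ * x⁻¹) = x * (g * c * (g : G)⁻¹) * x⁻¹ by group,
      hg', ← conj_pow, hj', ← pow_mul]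
  have hn := conj_pow_eq hxg (orderOf (x * g))
  rw [pow_orderOf_eq_one, inv_one, one_mul, mul_one] at hn
  have h1 : (c : G) ^ 1 = (c : G) ^ (j * 2) ^ orderOf (x * g) := by rw [pow_one]; exact hn
  rw [pow_eq_pow_iff_modEq, hcG, ← ZMod.natCast_eq_natCast_iff] at h1
  push_cast at h1
  rw [hj6, h62] at h1
  have h5 : orderOf (5 : ZMod 7) = 6 := by
    rw [orderOf_eq_iff (by norm_num)]
    exact ⟨h56, h5i⟩
  have hd : 6 ∣ orderOf (x * g) := h5 ▸ orderOf_dvd_of_pow_eq_one h1.symm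
  exact absurd (h.dvd_unique Nat.prime_two Nat.prime_three
    ((dvd_mul_right 2 3).trans hd) ((dvd_mul_left 3 2).trans hd)) (by norm_num)

/-- An EPPO group mapping onto `PSL(3, 4)` with 2-group kernel is `PSL(3, 4)`. -/
theorem EPPO.ker_eq_bot_of_psl34 [Finite G] (h : EPPO G) {F : Type*} [Field F] [Fintype F]
    (hF : Fintype.card F = 4) (π : G →* Matrix.ProjectiveSpecialLinearGroup (Fin 3) F)
    (hπ : Function.Surjective π) (hV : IsPGroup 2 π.ker) : π.ker = ⊥ := by
  haveI : Fact (Nat.Prime 3) := ⟨Nat.prime_three⟩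
  haveI : Fact (Nat.Prime 2) := ⟨Nat.prime_two⟩
  obtain ⟨a, b, ha, hb, hab, hnot⟩ := psl_three_four_nine hF
  -- an element of order three over each of `a` and `b`
  obtain ⟨A, rfl⟩ := hπ a
  obtain ⟨B, rfl⟩ := hπ b
  set W : Subgroup (Matrix.ProjectiveSpecialLinearGroup (Fin 3) F) := closure {π A, π B} with hW
  have hWc : ∀ y ∈ W, ∀ z ∈ W, Commute y z := by
    intro y hy z hz
    have h1 : W ≤ centralizer ({π A, π B} : Set _) := by
      rw [hW, closure_le]
      intro u hu v hv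
      rcases hu with rfl | hu <;> rcases hv with rfl | hv
      · rfl
      · rw [Set.mem_singleton_iff.1 hv]; exact hab.symm
      · rw [Set.mem_singleton_iff.1 hu]; exact hab
      · rw [Set.mem_singleton_iff.1 hv, Set.mem_singleton_iff.1 hu]
    have h2 : W ≤ centralizer ({z} : Set _) := by
      rw [hW, closure_le]
      intro u hu
      exact mem_centralizer_singleton_iff.2 ((mem_centralizer_iff.1 (h1 hz)) u hu)
    exact mem_centralizer_singleton_iff.1 (h2 hy)
  have hW3 : ∀ y ∈ W, y ^ 3 = 1 := by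
    intro y hy
    induction hy using Subgroup.closure_induction with
    | mem u hu =>
      rcases hu with rfl | hu
      · exact orderOf_dvd_iff_pow_eq_one.1 (dvd_of_eq ha)
      · rw [Set.mem_singleton_iff.1 hu]
        exact orderOf_dvd_iff_pow_eq_one.1 (dvd_of_eq hb)
    | one => rw [one_pow]
    | mul u v hu hv hu3 hv3 => rw [(hWc u hu v hv).mul_pow, hu3, hv3, one_mul]
    | inv u hu hu3 => rw [inv_pow, hu3, inv_one]
  have hWp : IsPGroup 3 W := fun y => ⟨1, Subtype.ext (by simpa using hW3 y y.2)⟩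
  set K : Subgroup G := W.comap π with hK
  let ρ : K →* W := (π.comp K.subtype).codRestrict W fun k => k.2
  have hρ : Function.Surjective ρ := fun w => by
    obtain ⟨k, hk⟩ := hπ w
    exact ⟨⟨k, show π k ∈ W from hk.symm ▸ w.2⟩, Subtype.ext hk⟩
  obtain ⟨Q⟩ : Nonempty (Sylow 3 K) := inferInstance
  have hQtop : (Q : Subgroup K).map ρ = ⊤ :=
    ((Q.mapSurjective hρ).3 (hWp.of_equiv Subgroup.topEquiv.symm) le_top).symm
  set E : Subgroup G := (Q : Subgroup K).map K.subtype with hE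
  have hEp : IsPGroup 3 E := Q.2.map _
  have hEK : E ≤ K := Subgroup.map_subtype_le _
  have hlift : ∀ w ∈ W, ∃ y ∈ E, π y = w := fun w hw => by
    obtain ⟨q, hq, hqw⟩ := (hQtop.symm ▸ Subgroup.mem_top _ : (⟨w, hw⟩ : W) ∈ (Q : Subgroup K).map ρ)
    exact ⟨q, ⟨q, hq, rfl⟩, congrArg Subtype.val hqw⟩
  have hdis : ∀ y ∈ E, π y = 1 → y = 1 := fun y hy hy' => by
    obtain ⟨i, hi⟩ := IsPGroup.iff_orderOf.1 hEp ⟨y, hy⟩
    obtain ⟨k, hk⟩ := IsPGroup.iff_orderOf.1 hV ⟨y, hy'⟩
    rw [← Subgroup.orderOf_coe] at hi hk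
    refine orderOf_eq_one_iff.1 (Nat.eq_one_of_dvd_coprimes ?_ (dvd_of_eq hi) (dvd_of_eq hk))
    exact ((Nat.coprime_primes Nat.prime_three Nat.prime_two).2 (by norm_num)).pow i k
  have hE3 : ∀ y ∈ E, y ^ 3 = 1 := fun y hy =>
    hdis _ (pow_mem hy 3) (by rw [map_pow]; exact hW3 _ (hEK hy))
  haveI : IsMulCommutative E := ⟨⟨fun u v => Subtype.ext (by
    refine mul_inv_eq_one.1 (hdis ((u : G) * v * ((v : G) * u)⁻¹)
      (mul_mem (mul_mem u.2 v.2) (inv_mem (mul_mem v.2 u.2))) ?_)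
    rw [map_mul, map_mul, map_inv, map_mul, (hWc _ (hEK u.2) _ (hEK v.2)).eq, mul_inv_cancel])⟩⟩
  have hnc : ¬ IsCyclic E := by
    intro hc
    obtain ⟨z, hz⟩ := hc.exists_generator
    obtain ⟨yA, hyA, hA'⟩ := hlift (π A) (subset_closure (Or.inl rfl))
    obtain ⟨yB, hyB, hB'⟩ := hlift (π B) (subset_closure (Or.inr rfl))
    obtain ⟨i, hi⟩ := hz ⟨yA, hyA⟩
    obtain ⟨k, hk⟩ := hz ⟨yB, hyB⟩
    have hi' : (z : G) ^ i = yA := by simpa using congrArg Subtype.val hi
    have hk' : (z : G) ^ k = yB := by simpa using congrArg Subtype.val hk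
    have hAz : π A ∈ zpowers (π (z : G)) := ⟨i, by show π (z : G) ^ i = π A; rw [← map_zpow, hi', hA']⟩
    have hle : zpowers (π A) ≤ zpowers (π (z : G)) := zpowers_le.2 hAz
    have heq : zpowers (π A) = zpowers (π (z : G)) := by
      refine Subgroup.eq_of_le_of_card_ge hle ?_
      rw [Nat.card_zpowers, Nat.card_zpowers, ha]
      exact Nat.le_of_dvd (by norm_num) (orderOf_dvd_of_pow_eq_one (hW3 _ (hEK z.2)))
    exact hnot (heq ▸ ⟨k, by show π (z : G) ^ k = π B; rw [← map_zpow, hk', hB']⟩)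
  have hcop : (Nat.card E).Coprime (Nat.card π.ker) := by
    obtain ⟨i, hi⟩ := IsPGroup.iff_card.1 hEp
    obtain ⟨k, hk⟩ := IsPGroup.iff_card.1 hV
    rw [hi, hk]
    exact ((Nat.coprime_primes Nat.prime_three Nat.prime_two).2 (by norm_num)).pow i k
  have hgen := Coprime.iSup_centralizer_eq hnc
    (show E ≤ normalizer (π.ker : Set G) by rw [Subgroup.normalizer_eq_top π.ker]; exact le_top) hcop
  rw [← hgen, eq_bot_iff]
  refine iSup₂_le fun y hy => ?_
  intro v hv
  rw [Subgroup.mem_bot]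
  by_contra hv1
  obtain ⟨k, hk⟩ := IsPGroup.iff_orderOf.1 hV ⟨v, hv.1⟩
  rw [← Subgroup.orderOf_coe] at hk
  have hv2 : 2 ∣ orderOf v := by
    rcases k with _ | k
    · exact absurd (orderOf_eq_one_iff.1 (hk.trans (pow_zero 2))) hv1
    · exact hk ▸ dvd_pow_self 2 k.succ_ne_zero
  refine h.nonAdj Nat.prime_two Nat.prime_three (by norm_num) (v ^ (orderOf v / 2) * y) ?_
  have hc : Commute (v ^ (orderOf v / 2)) y :=
    (show Commute v y from mem_centralizer_singleton_iff.1 hv.2).pow_left _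
  have hy3 : orderOf y = 3 := orderOf_eq_prime (hE3 y hy.1) hy.2
  rw [hc.orderOf_mul_eq_mul_orderOf_of_coprime, orderOf_pow_orderOf_div (orderOf_pos v).ne' hv2, hy3]
  rw [orderOf_pow_orderOf_div (orderOf_pos v).ne' hv2, hy3]
  norm_num

/-- A group all of whose elements have prime power order has at most four primes, and with four
it is `PSL(3, 4)` or a 2-group extended by `Sz(8)` or `Sz(32)`. -/
theorem eppo_four_primes [Finite G] (hsimple : EPPOSimple.{u}) (h : EPPO G) :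
    (Nat.card G).primeFactors.card ≤ 4 ∧
    ((Nat.card G).primeFactors.card = 4 →
      (∃ (F : Type) (_ : Field F) (_ : Fintype F), Fintype.card F = 4 ∧
        Nonempty (G ≃* Matrix.ProjectiveSpecialLinearGroup (Fin 3) F)) ∨
      (∃ (N : Subgroup G) (_ : N.Normal), IsPGroup 2 ↥N ∧
        ∃ (F : Type) (_ : Field F) (_ : Fintype F),
          (Fintype.card F = 8 ∧ Nonempty (G ⧸ N ≃* ↥(Cfsg.Lie.Sz F 4))) ∨
          (Fintype.card F = 32 ∧ Nonempty (G ⧸ N ≃* ↥(Cfsg.Lie.Sz F 8))))) := by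
  by_cases hsol : Group.IsSolvable G
  · have := h.card_primeFactors_le_two
    exact ⟨by omega, fun he => absurd he (by omega)⟩
  haveI : Fact (Nat.Prime 2) := ⟨Nat.prime_two⟩
  have hCIT : IsCIT G := isCIT_of_nonAdj fun r hr h2 => h.nonAdj Nat.prime_two hr (Ne.symm h2)
  have hH := h.quotient (Cfsg.pCore 2 G)
  obtain ⟨L, hLn, hLs, hLna, -, hLC⟩ := exists_socle (isCIT_quotient hCIT (Cfsg.pCore 2 G))
    (not_isSolvable_quotient_pCore hsol) PCore.pCore_quotient_self_eq_bot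
  have hnsL : ¬ Group.IsSolvable L := fun hs => by
    obtain ⟨a, b, hab⟩ := hLna
    exact hab (IsSimpleGroup.comm_iff_isSolvable.2 hs a b)
  have hL2 : 2 ∣ Nat.card L := CIT.two_dvd_card hLna
  have hLG : Nat.card L ∣ Nat.card G :=
    (Subgroup.card_subgroup_dvd_card L).trans (Subgroup.card_quotient_dvd_card _)
  have hpf : (Nat.card G).primeFactors = (Nat.card L).primeFactors := by
    refine Finset.Subset.antisymm (fun r hr => ?_) (Nat.primeFactors_mono hLG Nat.card_pos.ne')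
    obtain ⟨hr, hrG, -⟩ := Nat.mem_primeFactors.1 hr
    refine Nat.mem_primeFactors.2 ⟨hr, ?_, Nat.card_pos.ne'⟩
    by_cases h2 : r = 2
    · exact h2 ▸ hL2
    · exact hH.dvd_socle L hnsL hr (dvd_card_quotient_pCore hr h2 hrG)
  rw [hpf]
  have hnc : ¬ IsMulCommutative L := fun hc => by
    obtain ⟨a, b, hab⟩ := hLna
    exact hab (mul_comm' a b)
  have hp5 : Nat.Prime 5 := by norm_num
  have hp7 : Nat.Prime 7 := by norm_num
  rcases hsimple L hnc (hH.subgroup L) with ⟨⟨e⟩⟩ | ⟨F, hFf, hFt, hF, ⟨e⟩⟩ | ⟨F, hFf, hFt, hF, ⟨e⟩⟩ |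
    ⟨F, hFf, hFt, hF⟩
  · have hc : Nat.card L = 360 := by
      rw [Nat.card_congr e.toEquiv, nat_card_alternatingGroup, Nat.card_fin]
      rfl
    have := card_primeFactors_le_three (a := 3) (b := 2) (c := 1) Nat.prime_three hp5
      (hc.trans (by norm_num))
    exact ⟨by omega, fun he => absurd he (by omega)⟩
  · have hc := Nat.card_congr e.toEquiv
    rw [PSL2.card_PSL] at hc
    have : (Nat.card L).primeFactors.card ≤ 3 := by
      simp only [Finset.mem_insert, Finset.mem_singleton] at hF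
      rcases hF with h4 | h7 | h8 | h17
      · rw [h4] at hc
        exact card_primeFactors_le_three (a := 2) (b := 1) (c := 1) Nat.prime_three hp5
          (hc.trans (by norm_num))
      · rw [h7] at hc
        exact card_primeFactors_le_three (a := 3) (b := 1) (c := 1) Nat.prime_three hp7
          (hc.trans (by norm_num))
      · rw [h8] at hc
        exact card_primeFactors_le_three (a := 3) (b := 2) (c := 1) Nat.prime_three hp7
          (hc.trans (by norm_num))
      · rw [h17] at hc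
        exact card_primeFactors_le_three (a := 4) (b := 2) (c := 1) Nat.prime_three
          (by norm_num : Nat.Prime 17) (hc.trans (by norm_num))
    exact ⟨by omega, fun he => absurd he (by omega)⟩
  · have h1 := GL.gcd_mul_card_PSL (F := F) 3 (by norm_num)
    rw [GL.card_SL_prod, hF] at h1
    norm_num [Finset.prod_Ico_succ_top] at h1
    have hc : Nat.card L = 20160 := by rw [Nat.card_congr e.toEquiv]; omega
    refine ⟨card_primeFactors_le_four (a := 6) (b := 2) (c := 1) (d := 1) Nat.prime_three hp5 hp7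
      (hc.trans (by norm_num)), fun _ => Or.inl ⟨F, hFf, hFt, hF, ?_⟩⟩
    haveI : CharP F 2 := CharTwo.of_one_ne_zero_of_two_eq_zero one_ne_zero
      (PSL2.even_card_iff.1 (hF ▸ ⟨2, rfl⟩))
    have hconj : ∀ a b : L, orderOf a = 2 → orderOf b = 2 → IsConj a b := fun a b ha hb => by
      have h := e.symm.toMonoidHom.map_isConj (psl_three_involutions_isConj
        (x := e a) (y := e b) (by rw [MulEquiv.orderOf_eq, ha]) (by rw [MulEquiv.orderOf_eq, hb]))
      simpa using h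
    have htop : L = ⊤ := hH.eq_top_of_psl34 L
      (isPGroup_outer (isCIT_quotient hCIT (Cfsg.pCore 2 G)) hL2 hconj) hF e hc
    let eH : G ⧸ Cfsg.pCore 2 G ≃* Matrix.ProjectiveSpecialLinearGroup (Fin 3) F :=
      (Subgroup.topEquiv.symm.trans (MulEquiv.subgroupCongr htop.symm)).trans e
    let π : G →* Matrix.ProjectiveSpecialLinearGroup (Fin 3) F :=
      eH.toMonoidHom.comp (QuotientGroup.mk' (Cfsg.pCore 2 G))
    have hπ : Function.Surjective π := eH.surjective.comp (QuotientGroup.mk'_surjective _)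
    have hker : π.ker = Cfsg.pCore 2 G := by
      ext x
      simp [π, MonoidHom.mem_ker, QuotientGroup.eq_one_iff]
    have hbot := h.ker_eq_bot_of_psl34 hF π hπ (hker ▸ PCore.isPGroup_pCore)
    exact ⟨MulEquiv.ofBijective π ⟨(MonoidHom.ker_eq_bot_iff π).1 hbot, hπ⟩⟩
  · have key : ∀ m : ℕ, 1 ≤ m → Fintype.card F = 2 ^ (2 * m + 1) →
        ∀ e : L ≃* ↥(Cfsg.Lie.Sz F (2 ^ (m + 1))),
        Nonempty ((G ⧸ Cfsg.pCore 2 G) ≃* ↥(Cfsg.Lie.Sz F (2 ^ (m + 1)))) := fun m hm hF e => by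
      have htop := eq_top_of_suzuki L hLC (isPGroup_outer (isCIT_quotient hCIT (Cfsg.pCore 2 G)) hL2
        (fun a b => sz_involutions_isConj hm hF e)) hm hF e
      exact ⟨(Subgroup.topEquiv.symm.trans (MulEquiv.subgroupCongr htop.symm)).trans e⟩
    rcases hF with ⟨h8, ⟨e⟩⟩ | ⟨h32, ⟨e⟩⟩
    · have hc := (Nat.card_congr e.toEquiv).trans (SZ.card_LieSz (F := F) (m := 1) le_rfl h8)
      rw [h8] at hc
      refine ⟨card_primeFactors_le_four (a := 6) (b := 1) (c := 1) (d := 1) hp5 hp7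
        (by norm_num : Nat.Prime 13) (hc.trans (by norm_num)), fun _ => Or.inr
          ⟨Cfsg.pCore 2 G, inferInstance, PCore.isPGroup_pCore, F, hFf, hFt, Or.inl ⟨h8, ?_⟩⟩⟩
      exact key 1 le_rfl h8 e
    · have hc := (Nat.card_congr e.toEquiv).trans (SZ.card_LieSz (F := F) (m := 2) one_le_two h32)
      rw [h32] at hc
      refine ⟨card_primeFactors_le_four (a := 10) (b := 2) (c := 1) (d := 1) hp5
        (by norm_num : Nat.Prime 31) (by norm_num : Nat.Prime 41) (hc.trans (by norm_num)),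
        fun _ => Or.inr ⟨Cfsg.pCore 2 G, inferInstance, PCore.isPGroup_pCore, F, hFf, hFt,
          Or.inr ⟨h32, ?_⟩⟩⟩
      exact key 2 one_le_two h32 e

end Cfsg.Agent.CITConsumer
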