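import Cfsg.Agent.Lib.CITConsumer.PrimeGraphSz
import Cfsg.Agent.Lib.CITConsumer.EPPO
import Cfsg.Agent.Lib.CIT.MainSz
import Cfsg.Agent.Lib.CIT.PrimePower

/-!
# The simple CIT groups up to isomorphism, as used by the prime graph statements
-/

set_option autoImplicit false

namespace Cfsg.Agent.CITConsumer

open Cfsg.Agent.CIT (IsCIT Concl)

universe u

theorem classification : Classification.{u} := fun _ _ _ _ hG hne => CIT.classification hne hG

theorem suzukiIso : SuzukiIso.{u} := by
  intro L _ _ _ hC hS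
  obtain ⟨-, l, hl1, hl⟩ := hS
  have hne : ∃ a b : L, a * b ≠ b * a := by
    by_contra hcomm
    push Not at hcomm
    letI : CommGroup L := { (inferInstance : Group L) with mul_comm := hcomm }
    have hp : (Nat.card L).Prime := IsSimpleGroup.prime_card
    rw [hl, mul_assoc] at hp
    have h8 : 2 ≤ 2 ^ (2 * l + 1) := Nat.le_self_pow (by omega) 2
    refine Nat.not_prime_mul (a := (2 ^ (2 * l + 1)) ^ 2)
      (b := ((2 ^ (2 * l + 1)) ^ 2 + 1) * (2 ^ (2 * l + 1) - 1)) (by nlinarith) ?_ hp
    intro h1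
    have := Nat.eq_one_of_mul_eq_one_right h1
    nlinarith
  have h3 : ¬ 3 ∣ Nat.card L := hl ▸ three_not_dvd_suzuki_order l
  rcases CIT.classification_sz hne hC with ⟨K, iK, iKt, -, ⟨e⟩⟩ | ⟨K, iK, iKt, hK, ⟨e⟩⟩ | h
  · exact absurd (Nat.card_congr e.toEquiv ▸ three_dvd_card_psl) h3
  · have hc : Nat.card L = 20160 := (Nat.card_congr e.toEquiv).trans (card_psl_three_four hK)
    exact absurd (hc ▸ (by norm_num : 3 ∣ 20160)) h3
  · exact h

theorem eppoSimple : EPPOSimple.{u} := fun G _ _ _ hnc h =>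
  have hne : ∃ a b : G, a * b ≠ b * a := by
    by_contra hcomm
    push Not at hcomm
    exact hnc ⟨⟨hcomm⟩⟩
  CIT.primePower_cases h hne (CIT.classification_sz hne (CIT.isCIT_of_primePower h))

end Cfsg.Agent.CITConsumer
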