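import Cfsg.Agent.Lib.Zsigmondy.Basic

/-!
# The odd primes of `2 ^ (2 m) - 1`
-/

set_option autoImplicit false

namespace Cfsg.Agent.CITConsumer

/-- `r` is a primitive prime divisor of `2 ^ n - 1`. -/
def IsPPD (r n : ℕ) : Prop :=
  r.Prime ∧ r ∣ 2 ^ n - 1 ∧ ∀ k : ℕ, 0 < k → k < n → ¬ r ∣ 2 ^ k - 1

theorem exists_isPPD {n : ℕ} (hn : 1 < n) (h6 : n ≠ 6) : ∃ r, IsPPD r n :=
  Zsigmondy.exists_primitive_prime_divisor 2 n one_lt_two hn (fun h => h6 h.2)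
    (fun h => by
      obtain ⟨rfl, k, hk⟩ := h
      rcases k with _ | k
      · simp at hk
      · rw [pow_succ] at hk
        omega)

theorem IsPPD.dvd {r n a : ℕ} (h : IsPPD r n) (hn : 0 < n) (ha : r ∣ 2 ^ a - 1) : n ∣ a := by
  have hg : r ∣ 2 ^ Nat.gcd n a - 1 := Nat.pow_sub_one_gcd_pow_sub_one 2 n a ▸ Nat.dvd_gcd h.2.1 ha
  have hpos : 0 < Nat.gcd n a := Nat.gcd_pos_of_pos_left a hn
  rcases (Nat.le_of_dvd hn (Nat.gcd_dvd_left n a)).lt_or_eq with hlt | he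
  · exact absurd hg (h.2.2 _ hpos hlt)
  · exact he ▸ Nat.gcd_dvd_right n a

theorem IsPPD.ne_two {r n : ℕ} (h : IsPPD r n) (hn : 0 < n) : r ≠ 2 := by
  rintro rfl
  have h2 : 2 ∣ 2 ^ n := dvd_pow_self 2 hn.ne'
  have := h.2.1
  have hp : 0 < 2 ^ n := by positivity
  omega

/-- `2 ^ k + 1` divides `2 ^ (2 k) - 1`. -/
theorem add_one_dvd_sub_one (k : ℕ) : 2 ^ k + 1 ∣ 2 ^ (2 * k) - 1 :=
  ⟨2 ^ k - 1, by rw [← Nat.sq_sub_sq, one_pow, ← pow_mul, mul_comm k 2]⟩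

theorem dvd_double_of_dvd {d a : ℕ} (h : d ∣ 2 ^ a - 1) : d ∣ 2 ^ (2 * a) - 1 :=
  h.trans (Nat.pow_sub_one_dvd_pow_sub_one 2 (dvd_mul_left a 2))

/-- Same odd primes for `2 ^ (2 m) - 1` and `2 ^ (2 n) - 1`. -/
theorem eq_of_same_primes {m n : ℕ} (hm : 4 ≤ m) (hn : 0 < n)
    (h : ∀ d : ℕ, d.Prime → d ≠ 2 → (d ∣ 2 ^ (2 * m) - 1 ↔ d ∣ 2 ^ (2 * n) - 1)) : m = n := by
  obtain ⟨r, hr⟩ := exists_isPPD (n := 2 * m) (by omega) (by omega)
  have hmn : m ∣ n := Nat.dvd_of_mul_dvd_mul_left two_pos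
    (hr.dvd (by omega) ((h r hr.1 (hr.ne_two (by omega))).1 hr.2.1))
  have hn4 : 4 ≤ n := hm.trans (Nat.le_of_dvd hn hmn)
  obtain ⟨s, hs⟩ := exists_isPPD (n := 2 * n) (by omega) (by omega)
  exact Nat.dvd_antisymm hmn (Nat.dvd_of_mul_dvd_mul_left two_pos
    (hs.dvd (by omega) ((h s hs.1 (hs.ne_two (by omega))).2 hs.2.1)))

/-- Some prime divisor of `2 ^ (2 m) - 1` is not a divisor of `315`. -/
theorem exists_not_dvd_315 {m : ℕ} (hm : 4 ≤ m) :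
    ∃ d : ℕ, d.Prime ∧ d ≠ 2 ∧ d ∣ 2 ^ (2 * m) - 1 ∧ ¬ d ∣ 315 := by
  obtain ⟨r, hr⟩ := exists_isPPD (n := 2 * m) (by omega) (by omega)
  refine ⟨r, hr.1, hr.ne_two (by omega), hr.2.1, fun h => ?_⟩
  rw [show (315 : ℕ) = 3 * (3 * (5 * 7)) by norm_num] at h
  rcases hr.1.dvd_mul.1 h with h | h
  · exact hr.2.2 2 (by omega) (by omega) (by norm_num; exact h)
  rcases hr.1.dvd_mul.1 h with h | h
  · exact hr.2.2 2 (by omega) (by omega) (by norm_num; exact h)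
  rcases hr.1.dvd_mul.1 h with h | h
  · exact hr.2.2 4 (by omega) (by omega) (by
      norm_num; exact h.trans (by norm_num))
  · exact hr.2.2 3 (by omega) (by omega) (by norm_num; exact h)

/-- The odd primes of `2 ^ (2 m) - 1` are not those of the order of `PSL(2, p)`, `p = 2 ^ k + 1`. -/
theorem false_of_fermat {m k p : ℕ} (hm : 4 ≤ m) (hk : 2 ≤ k) (hp : p.Prime) (hpk : p = 2 ^ k + 1)
    (hpm : p ∣ 2 ^ (2 * m) - 1)
    (h : ∀ d : ℕ, d.Prime → d ≠ 2 → d ∣ 2 ^ (2 * m) - 1 → d = p ∨ d ∣ 2 ^ (k - 1) + 1) : False := by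
  have hg : p ∣ 2 ^ Nat.gcd (2 * k) (2 * m) - 1 :=
    Nat.pow_sub_one_gcd_pow_sub_one 2 (2 * k) (2 * m) ▸
      Nat.dvd_gcd (hpk ▸ add_one_dvd_sub_one k) hpm
  have hkm : k ∣ m := by
    refine Nat.dvd_of_mul_dvd_mul_left two_pos ?_
    obtain ⟨c, hc⟩ := Nat.gcd_dvd_left (2 * k) (2 * m)
    have hg0 : 0 < Nat.gcd (2 * k) (2 * m) := Nat.gcd_pos_of_pos_left _ (by omega)
    rcases Nat.lt_or_ge c 2 with hc1 | hc2
    · interval_cases c
      · omega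
      · rw [show 2 * k = Nat.gcd (2 * k) (2 * m) by omega]
        exact Nat.gcd_dvd_right _ _
    · exfalso
      have hle : Nat.gcd (2 * k) (2 * m) ≤ k := by nlinarith
      have h1 := Nat.pow_le_pow_right two_pos hle
      have h2 : 2 ≤ 2 ^ Nat.gcd (2 * k) (2 * m) := Nat.le_self_pow hg0.ne' 2
      have := Nat.le_of_dvd (by omega) hg
      omega
  obtain ⟨r, hr⟩ := exists_isPPD (n := 2 * m) (by omega) (by omega)
  rcases h r hr.1 (hr.ne_two (by omega)) hr.2.1 with hrp | hrd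
  · have hmk : m = k := Nat.dvd_antisymm (Nat.dvd_of_mul_dvd_mul_left two_pos
      (hr.dvd (by omega) (hrp ▸ hpk ▸ add_one_dvd_sub_one k))) hkm
    subst hmk
    have h6 : m ≠ 6 := fun h6 => by
      subst h6
      rw [hpk] at hp
      norm_num at hp
    obtain ⟨s, hs⟩ := exists_isPPD (n := m) (by omega) h6
    rcases h s hs.1 (hs.ne_two (by omega)) (dvd_double_of_dvd hs.2.1) with hsp | hsd
    · have h1 : 2 ≤ 2 ^ m := Nat.le_self_pow (by omega) 2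
      have := Nat.le_of_dvd (by omega) (hsp ▸ hs.2.1)
      omega
    · have h1 := hs.dvd (by omega) (hsd.trans (add_one_dvd_sub_one (m - 1)))
      have h2 : m ∣ 2 := by
        have h3 := Nat.dvd_sub (dvd_mul_left m 2) h1
        rwa [show 2 * m - 2 * (m - 1) = 2 by omega] at h3
      have := Nat.le_of_dvd two_pos h2
      omega
  · have h1 : m ∣ k - 1 := Nat.dvd_of_mul_dvd_mul_left two_pos
      (hr.dvd (by omega) (hrd.trans (add_one_dvd_sub_one (k - 1))))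
    have := Nat.le_of_dvd (by omega) (hkm.trans h1)
    omega

/-- The odd primes of `2 ^ (2 m) - 1` are not those of the order of `PSL(2, p)`, `p = 2 ^ k - 1`. -/
theorem false_of_mersenne {m k p : ℕ} (hm : 4 ≤ m) (hk : 2 ≤ k) (hp : p.Prime)
    (hpk : p + 1 = 2 ^ k) (hpm : p ∣ 2 ^ (2 * m) - 1)
    (h : ∀ d : ℕ, d.Prime → d ≠ 2 → d ∣ 2 ^ (2 * m) - 1 → d = p ∨ d ∣ 2 ^ (k - 1) - 1) : False := by
  have hp' : p ∣ 2 ^ k - 1 := ⟨1, by omega⟩
  have hg : p ∣ 2 ^ Nat.gcd k (2 * m) - 1 :=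
    Nat.pow_sub_one_gcd_pow_sub_one 2 k (2 * m) ▸ Nat.dvd_gcd hp' hpm
  have hkm : k ∣ 2 * m := by
    rcases (Nat.le_of_dvd (by omega) (Nat.gcd_dvd_left k (2 * m))).lt_or_eq with hlt | he
    · exfalso
      have hg0 : 0 < Nat.gcd k (2 * m) := Nat.gcd_pos_of_pos_left _ (by omega)
      have h1 := Nat.pow_lt_pow_right (a := 2) one_lt_two hlt
      have h2 : 2 ≤ 2 ^ Nat.gcd k (2 * m) := Nat.le_self_pow hg0.ne' 2
      have := Nat.le_of_dvd (by omega) hg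
      omega
    · rw [← he]; exact Nat.gcd_dvd_right _ _
  obtain ⟨r, hr⟩ := exists_isPPD (n := 2 * m) (by omega) (by omega)
  rcases h r hr.1 (hr.ne_two (by omega)) hr.2.1 with hrp | hrd
  · have he : k = 2 * m := Nat.dvd_antisymm hkm (hr.dvd (by omega) (hrp ▸ hp'))
    subst he
    have hfac : p = (2 ^ m + 1) * (2 ^ m - 1) := by
      rw [← Nat.sq_sub_sq, one_pow, ← pow_mul, mul_comm m 2]
      omega
    have h16 : 2 ^ 4 ≤ 2 ^ m := Nat.pow_le_pow_right two_pos hm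
    exact Nat.not_prime_mul (a := 2 ^ m + 1) (b := 2 ^ m - 1) (by omega) (by omega) (hfac ▸ hp)
  · have h1 : 2 * m ∣ k - 1 := hr.dvd (by omega) hrd
    have := Nat.le_of_dvd (by omega) (hkm.trans h1)
    omega

/-- The order of a Suzuki group is prime to three. -/
theorem three_not_dvd_suzuki_order (l : ℕ) :
    ¬ 3 ∣ (2 ^ (2 * l + 1)) ^ 2 * ((2 ^ (2 * l + 1)) ^ 2 + 1) * (2 ^ (2 * l + 1) - 1) := by
  intro h
  have h4 : 4 ^ l % 3 = 1 := by rw [Nat.pow_mod]; norm_num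
  have hQ : (2 : ℕ) ^ (2 * l + 1) = 2 * 4 ^ l := by rw [pow_succ', pow_mul]; norm_num
  have hQQ : (2 * 4 ^ l) ^ 2 % 3 = 1 := by rw [Nat.pow_mod, Nat.mul_mod, h4]
  rw [hQ] at h
  rcases Nat.prime_three.dvd_mul.1 h with h | h
  · rcases Nat.prime_three.dvd_mul.1 h with h | h <;> omega
  · omega

end Cfsg.Agent.CITConsumer
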