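import Cfsg.Agent.Lib.CITConsumer.Reduce
import Cfsg.Agent.Lib.PSL2.Sylow

/-!
# No outer part over `PSL(2, 2^n)` in a CIT group

An outer 2-element normalising a Borel subgroup inverts its torus and fixes a root element,
so inversion would be additive on the field.
-/

set_option autoImplicit false

namespace Cfsg.Agent.CITConsumer

open Subgroup Cfsg.Agent.PSL2
open Cfsg.Agent.CIT (IsCIT)
open scoped MatrixGroups

/-- A field in which inversion is additive on the line through a fixed point has at most four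
elements. -/
theorem card_le_four_of_inv_additive {F : Type*} [Field F] [Fintype F] (h2 : (2 : F) = 0)
    (f : F → F) (hadd : ∀ a b, f (a + b) = f a + f b) (h1 : f 1 = 1)
    (hinv : ∀ a, a ≠ 0 → f a = a⁻¹) : Fintype.card F ≤ 4 := by
  classical
  haveI : CharP F 2 := CharTwo.of_one_ne_zero_of_two_eq_zero one_ne_zero h2
  have key : ∀ a : F, a ≠ 0 → a ≠ 1 → a * a + a + 1 = 0 := by
    intro a ha ha1
    have hne : (1 : F) + a ≠ 0 := fun h => ha1 (CharTwo.add_eq_zero.1 h).symm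
    have e := hadd 1 a
    rw [h1, hinv a ha, hinv _ hne] at e
    field_simp at e
    have hh : a * a + a + 1 = 2 * (a * a + a + 1) + (a - (a + 1) * (1 + a)) := by ring
    rw [hh, h2, zero_mul, zero_add, sub_eq_zero]
    linear_combination e
  by_contra hlt
  push Not at hlt
  obtain ⟨a, -, ha⟩ : ∃ a ∈ (Finset.univ : Finset F), a ∉ ({0, 1} : Finset F) :=
    Finset.exists_mem_notMem_of_card_lt_card (lt_of_le_of_lt (Finset.card_insert_le _ _)
      (by simp only [Finset.card_singleton, Finset.card_univ]; omega))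
  obtain ⟨b, -, hb⟩ : ∃ b ∈ (Finset.univ : Finset F), b ∉ ({0, 1, a, a + 1} : Finset F) :=
    Finset.exists_mem_notMem_of_card_lt_card
      (lt_of_le_of_lt (by exact Finset.card_le_four) (by rwa [Finset.card_univ]))
  simp only [Finset.mem_insert, Finset.mem_singleton, not_or] at ha hb
  obtain ⟨hb0, hb1, hba, hba1⟩ := hb
  have e : (a + b) * (a + b + 1) = 0 := by
    have h' : (a + b) * (a + b + 1) = (a * a + a + 1) + (b * b + b + 1) + 2 * (a * b - 1) := by ring
    rw [h', key a ha.1 ha.2, key b hb0 hb1, h2]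
    ring
  rcases mul_eq_zero.1 e with h | h
  · exact hba (CharTwo.add_eq_zero.1 h).symm
  · exact hba1 (by rw [add_assoc, add_comm b 1, ← add_assoc] at h; exact (CharTwo.add_eq_zero.1 h).symm)

variable {H : Type*} [Group H] [Finite H]

/-- A CIT group with a normal subgroup `PSL(2, 2^n)`, `2^n > 4`, of 2-power index is equal to it. -/
theorem eq_top_of_psl2_even (hH : IsCIT H) (L : Subgroup H) [L.Normal]
    (hout : IsPGroup 2 (H ⧸ L)) (F : Type*) [Field F] [Fintype F] (h2 : (2 : F) = 0)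
    (hq : 4 < Fintype.card F) (e : L ≃* Matrix.ProjectiveSpecialLinearGroup (Fin 2) F) :
    L = ⊤ := by
  classical
  haveI : Fact (Nat.Prime 2) := ⟨Nat.prime_two⟩
  haveI : CharP F 2 := CharTwo.of_one_ne_zero_of_two_eq_zero one_ne_zero h2
  by_contra hLtop
  let φ : SL(2, F) →* H := L.subtype.comp (e.symm.toMonoidHom.comp mk)
  have hmkinj : ∀ g : SL(2, F), mk g = 1 → g = 1 := fun g hg =>
    (mk_eq_one.1 hg).elim id fun h => h.trans (neg_one_eq_one_iff.2 h2)
  have hφ : Function.Injective φ := by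
    refine (injective_iff_map_eq_one φ).2 fun g hg => hmkinj g ?_
    exact (MulEquiv.map_eq_one_iff e.symm).1 (Subtype.ext hg)
  have hφL : ∀ g, φ g ∈ L := fun g => (e.symm (mk g)).2
  have hφs : ∀ l ∈ L, ∃ g, φ g = l := fun l hl => by
    obtain ⟨g, hg⟩ := mk_surjective (e ⟨l, hl⟩)
    exact ⟨g, by show ((e.symm (mk g) : L) : H) = l; rw [hg, MulEquiv.symm_apply_apply]⟩
  set T : Subgroup H := (unip F).map φ with hT
  -- the Frattini argument
  let P : Sylow 2 L := Sylow.ofCard ((((unip F).map mk)).map e.symm.toMonoidHom) (by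
    rw [Subgroup.card_map_of_injective e.symm.injective,
      ← coe_unipSylowPSL (F := F) 2, (unipSylowPSL F 2).card_eq_multiplicity,
      Nat.card_congr e.toEquiv])
  have hfr : normalizer (T : Set H) ⊔ L = ⊤ := by
    have := Sylow.normalizer_sup_eq_top P
    rwa [Sylow.coe_ofCard, Subgroup.map_map, Subgroup.map_map] at this
  -- an outer 2-element normalising `T`
  obtain ⟨x, hxN, hxL, hx2, a, hxo⟩ : ∃ x : H, x ∈ normalizer (T : Set H) ∧ x ∉ L ∧ x * x ∈ L ∧
      ∃ a : ℕ, orderOf x = 2 ^ a := by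
    have hne : (2 : ℕ) ∣ Nat.card (H ⧸ L) := by
      obtain ⟨k, hk⟩ := IsPGroup.iff_card.1 hout
      rcases k with _ | k
      · exact absurd (Subgroup.index_eq_one.1 (hk.trans (pow_zero 2))) hLtop
      · exact hk ▸ dvd_pow_self 2 k.succ_ne_zero
    obtain ⟨y, hy⟩ := exists_prime_orderOf_dvd_card' 2 hne
    obtain ⟨z, rfl⟩ := QuotientGroup.mk'_surjective L y
    obtain ⟨w, hw, l, hl, rfl⟩ := Subgroup.mem_sup_of_normal_right.1
      (hfr ▸ Subgroup.mem_top z : z ∈ normalizer (T : Set H) ⊔ L)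
    have hwy : QuotientGroup.mk' L (w * l) = QuotientGroup.mk' L w := by
      rw [map_mul, show QuotientGroup.mk' L l = 1 from (QuotientGroup.eq_one_iff _).2 hl, mul_one]
    rw [hwy] at hy
    obtain ⟨a, m, hm, hwm⟩ := Nat.exists_eq_pow_mul_and_not_dvd (orderOf_pos w).ne' 2 (by omega)
    refine ⟨w ^ m, pow_mem hw m, fun h => ?_, ?_, a, ?_⟩
    · have : (QuotientGroup.mk' L w) ^ m = 1 := by
        rw [← map_pow]; exact (QuotientGroup.eq_one_iff _).2 h
      exact hm (hy ▸ orderOf_dvd_of_pow_eq_one this)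
    · rw [← pow_add, ← two_mul, pow_mul, ← QuotientGroup.eq_one_iff]
      show QuotientGroup.mk' L ((w ^ 2) ^ m) = 1
      rw [map_pow, map_pow, ← hy, pow_orderOf_eq_one, one_pow]
    · have hm0 : m ≠ 0 := fun h0 => hm (h0 ▸ dvd_zero 2)
      rw [orderOf_pow' _ hm0, hwm, Nat.gcd_mul_left_left, Nat.mul_div_cancel _ (Nat.pos_of_ne_zero hm0)]
  -- the induced maps on `unip` and on the torus
  have hTmem : ∀ {h : H}, h ∈ T ↔ ∃ t, φ (uu t) = h := fun {h} =>
    ⟨fun ⟨g, hg, e⟩ => by obtain ⟨t, rfl⟩ := mem_unip.1 hg; exact ⟨t, e⟩,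
      fun ⟨t, e⟩ => ⟨uu t, uu_mem_unip t, e⟩⟩
  have hNB : ∀ g : SL(2, F), φ g ∈ normalizer (T : Set H) → g ∈ borel F := fun g hg => by
    rw [← normalizer_unip, mem_normalizer_iff]
    intro u
    have h := mem_normalizer_iff.1 hg (φ u)
    rw [hT, Subgroup.mem_map_iff_mem hφ, ← map_inv φ, ← map_mul, ← map_mul,
      Subgroup.mem_map_iff_mem hφ] at h
    exact h
  have hσ : ∀ t : F, ∃ s : F, φ (uu s) = x * φ (uu t) * x⁻¹ := fun t =>
    hTmem.1 ((mem_normalizer_iff.1 hxN _).1 (hTmem.2 ⟨t, rfl⟩))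
  choose σ hσ using hσ
  have hμ : ∀ b : Fˣ, ∃ c : Fˣ, ∃ s : F, φ (dd c * uu s) = x * φ (dd b) * x⁻¹ := fun b => by
    obtain ⟨g, hg⟩ := hφs (x * φ (dd b) * x⁻¹) (Subgroup.Normal.conj_mem inferInstance _ (hφL _) x)
    have hb : φ (dd b) ∈ normalizer (T : Set H) := by
      rw [mem_normalizer_iff]
      intro u
      constructor
      · intro hu
        obtain ⟨t, rfl⟩ := hTmem.1 hu
        exact hTmem.2 ⟨_, by rw [← map_inv φ, ← map_mul, ← map_mul, dd_conj_uu]⟩
      · intro hu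
        obtain ⟨t, ht⟩ := hTmem.1 hu
        refine hTmem.2 ⟨((b⁻¹ : Fˣ) : F) ^ 2 * t, ?_⟩
        rw [← dd_conj_uu, ← dd_inv, inv_inv, map_mul, map_mul, map_inv, ht]
        group
    have hgB := hNB g (hg ▸ mul_mem (mul_mem hxN hb) (inv_mem hxN))
    obtain ⟨c, s, hcs, -⟩ := exists_eq_dd_mul_uu hgB
    exact ⟨c, s, by rw [← hcs, hg]⟩
  choose μ τ hμ using hμ
  have hσadd : ∀ t u, σ (t + u) = σ t + σ u := fun t u => by
    refine uu_injective (hφ ?_)
    rw [hσ, ← uu_mul_uu, ← uu_mul_uu, map_mul, map_mul, hσ, hσ]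
    group
  have hsq : ∀ t, σ (σ t) = t := fun t => by
    obtain ⟨g, hg⟩ := hφs _ hx2
    have hgB : g ∈ borel F := hNB g (hg ▸ mul_mem hxN hxN)
    obtain ⟨c, s, rfl, -⟩ := exists_eq_dd_mul_uu hgB
    have hc : c = 1 := by
      have hp : (x * x) ^ (2 ^ a) = 1 := by
        rw [← hxo, (Commute.refl x).mul_pow, pow_orderOf_eq_one, one_mul]
      rw [← hg, ← map_pow] at hp
      have hp' : (dd c * uu s) ^ (2 ^ a) = 1 := hφ (hp.trans (map_one φ).symm)
      have key : ∀ n : ℕ, ∃ u, (dd c * uu s) ^ n = dd (c ^ n) * uu u := fun n => by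
        induction n with
        | zero => exact ⟨0, by simp⟩
        | succ n ih =>
          obtain ⟨u, hu⟩ := ih
          refine ⟨((c⁻¹ : Fˣ) : F) ^ 2 * u + s, ?_⟩
          rw [pow_succ, hu, pow_succ, ← uu_mul_uu, ← dd_conj_uu, ← dd_inv, inv_inv, ← dd_mul_dd]
          group
      obtain ⟨u, hu⟩ := key (2 ^ a)
      rw [hp'] at hu
      have h00 : (1 : F) = ((c ^ 2 ^ a : Fˣ) : F) := by
        have := congrArg (fun g : SL(2, F) => g 0 0) hu
        simpa [mul00] using this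
      have ho : orderOf c ∣ 2 ^ a := orderOf_dvd_of_pow_eq_one (Units.ext h00.symm)
      obtain ⟨i, -, hi⟩ := (Nat.dvd_prime_pow Nat.prime_two).1 ho
      have hodd : Odd (Fintype.card F - 1) := by
        obtain ⟨k, hk⟩ := (even_card_iff (F := F)).2 h2
        exact ⟨k - 1, by omega⟩
      have hd : orderOf c ∣ Fintype.card F - 1 := Fintype.card_units (α := F) ▸ orderOf_dvd_card
      have := hodd.of_dvd_nat hd
      rw [hi] at this
      rcases i with _ | i
      · exact orderOf_eq_one_iff.1 (hi.trans (pow_zero 2))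
      · exact absurd this (Nat.not_odd_iff_even.2 ⟨2 ^ i, by rw [pow_succ]; ring⟩)
    subst hc
    rw [dd_one, one_mul] at hg
    refine uu_injective (hφ ?_)
    rw [hσ, hσ, show x * (x * φ (uu t) * x⁻¹) * x⁻¹ = (x * x) * φ (uu t) * (x * x)⁻¹ by group, ← hg,
      ← map_inv φ, ← map_mul, ← map_mul, uu_inv, uu_mul_uu, uu_mul_uu]
    congr 2; ring
  have hrel : ∀ (b : Fˣ) (t : F), σ ((b : F) ^ 2 * t) = ((μ b : Fˣ) : F) ^ 2 * σ t := fun b t => by
    refine uu_injective (hφ ?_)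
    have e1 : uu (((μ b : Fˣ) : F) ^ 2 * σ t) =
        (dd (μ b) * uu (τ b)) * uu (σ t) * (dd (μ b) * uu (τ b))⁻¹ := by
      calc uu (((μ b : Fˣ) : F) ^ 2 * σ t)
          = dd (μ b) * (uu (τ b) * uu (σ t) * (uu (τ b))⁻¹) * (dd (μ b))⁻¹ := by
            rw [uu_inv, uu_mul_uu, uu_mul_uu, add_neg_cancel_comm, dd_conj_uu]
        _ = _ := by group
    rw [e1, hσ, map_mul, map_mul, map_inv, hμ, hσ, ← dd_conj_uu, map_mul, map_mul, map_inv]
    group
  -- a fixed vector
  obtain ⟨v, hv, hσv⟩ : ∃ v : F, v ≠ 0 ∧ σ v = v := by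
    by_cases h : σ 1 = 1
    · exact ⟨1, one_ne_zero, h⟩
    · exact ⟨1 + σ 1, fun h' => h (CharTwo.add_eq_zero.1 h').symm, by rw [hσadd, hsq, add_comm]⟩
  have hμb : ∀ b : Fˣ, μ b = b → b = 1 := by
    intro b hb
    by_contra hb1
    have hb2 : (b : F) ^ 2 ≠ 1 := fun h => hb1 (Units.ext (CharTwo.sq_inj.1 (h.trans (one_pow 2).symm)))
    -- adjust `x` by a root element so that it centralises the torus element
    have hd0 : (b : F) ^ 2 + 1 ≠ 0 := fun h => hb2 (CharTwo.add_eq_zero.1 h)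
    set r : F := (b : F) ^ 2 * τ b / ((b : F) ^ 2 + 1) with hr
    have e1 : uu r * (dd b * uu (τ b)) * (uu r)⁻¹ = dd b := by
      rw [uu_inv, CharTwo.neg_eq]
      apply ext2 <;> simp only [mul00, mul01, mul10, mul11] <;> simp
      · rw [hr]; field_simp; rw [← sub_eq_zero]; ring_nf; simp [h2]
    have hfix : (φ (uu r) * x) * φ (dd b) * (φ (uu r) * x)⁻¹ = φ (dd b) := by
      have hxb : φ (dd b * uu (τ b)) = x * φ (dd b) * x⁻¹ := by
        have := hμ b
        rwa [hb] at this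
      have h := congrArg φ e1
      rw [map_mul, map_mul (f := φ), map_inv, hxb] at h
      exact (show _ = φ (uu r) * (x * φ (dd b) * x⁻¹) * (φ (uu r))⁻¹ by group).trans h
    set x' := φ (uu r) * x with hx'
    have hxL' : x' ∉ L := fun h => hxL ((Subgroup.mul_mem_cancel_left L (hφL _)).1 h)
    have hc : Commute x' (φ (dd b)) := mul_inv_eq_iff_eq_mul.1 hfix
    have hodd : Odd (orderOf (φ (dd b))) := by
      rw [orderOf_injective φ hφ, orderOf_dd]
      obtain ⟨k, hk⟩ := (even_card_iff (F := F)).2 h2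
      refine (show Odd (Fintype.card F - 1) from ⟨k - 1, by omega⟩).of_dvd_nat ?_
      exact Fintype.card_units (α := F) ▸ orderOf_dvd_card
    have h2d : 2 ∣ orderOf x' := by
      obtain ⟨k, hk⟩ := IsPGroup.iff_orderOf.1 hout (QuotientGroup.mk' L x')
      rcases k with _ | k
      · exact absurd ((QuotientGroup.eq_one_iff _).1 (orderOf_eq_one_iff.1 (hk.trans (pow_zero 2)))) hxL'
      · exact ((dvd_pow_self 2 k.succ_ne_zero).trans (dvd_of_eq hk.symm)).trans (orderOf_map_dvd _ _)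
    have h1 := CIT.eq_one_of_commute hH hodd (orderOf_pow_orderOf_div (orderOf_pos x').ne' h2d)
      (hc.symm.pow_right _)
    exact hb1 (dd_eq_one_iff.1 (hφ (h1.trans (map_one φ).symm)))
  have hμinv : ∀ b : Fˣ, μ b = b⁻¹ := fun b => by
    have hm : ∀ c : Fˣ, ((μ c : Fˣ) : F) ^ 2 = σ ((c : F) ^ 2 * v) / v := fun c => by
      rw [hrel, hσv, mul_div_cancel_right₀ _ hv]
    have hinvol : μ (μ b) = b := by
      refine Units.ext (CharTwo.sq_inj.1 ?_)
      rw [hm, hm b, div_mul_cancel₀ _ hv, hsq, mul_div_cancel_right₀ _ hv]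
    have hmul : μ (b * μ b) = μ b * μ (μ b) := by
      refine Units.ext (CharTwo.sq_inj.1 ?_)
      rw [Units.val_mul, mul_pow, hm, Units.val_mul, mul_pow, mul_assoc, hrel, hm (μ b), hrel,
        hσv, mul_div_cancel_right₀ _ hv, mul_div_assoc, mul_div_cancel_right₀ _ hv]
    rw [hinvol, mul_comm] at hmul
    exact eq_inv_of_mul_eq_one_right (hμb _ (by rw [mul_comm]; exact (mul_comm b (μ b)) ▸ hmul))
  refine absurd (card_le_four_of_inv_additive h2 (fun y => σ (y * v) / v) (fun y z => ?_) ?_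
    fun y hy => ?_) (by omega)
  · rw [add_mul, hσadd, add_div]
  · rw [one_mul, hσv, div_self hv]
  · obtain ⟨c, hc⟩ : ∃ c : F, c ^ 2 = y := by
      obtain ⟨c, hc⟩ := FiniteField.isSquare_of_char_two (ringChar.eq F 2) y
      exact ⟨c, by rw [hc, sq]⟩
    have hc0 : c ≠ 0 := fun h => hy (by rw [← hc, h]; simp)
    show σ (y * v) / v = y⁻¹
    rw [← hc, show c = ((Units.mk0 c hc0 : Fˣ) : F) from rfl, hrel, hσv, hμinv,
      mul_div_cancel_right₀ _ hv, Units.val_inv_eq_inv_val, inv_pow]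

end Cfsg.Agent.CITConsumer
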