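import Cfsg.Agent.Lib.CITConsumer.Reduce
import Cfsg.Agent.Lib.CITConsumer.Outer
import Cfsg.Agent.Lib.CITConsumer.Numbers
import Cfsg.Agent.Lib.CITConsumer.Involutions
import Cfsg.Agent.Lib.PSL2.Classes
import Cfsg.Agent.Lib.PSL2.MinimalSimple
import Cfsg.Agent.Lib.PSL2.PGLHom

/-!
# Groups with the prime graph of `PSL(2, 2^m)`, `m ≥ 4`, given the CIT classification
-/

set_option autoImplicit false

namespace Cfsg.Agent.CITConsumer

open Cfsg.Agent.PrimeGraph (NonAdj)
open Cfsg.Agent.CIT (IsCIT Concl)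

universe u

/-- The classification of simple CIT groups. -/
def Classification : Prop :=
  ∀ (L : Type u) [Group L] [Finite L] [IsSimpleGroup L],
    IsCIT L → (∃ a b : L, a * b ≠ b * a) → Concl L

/-- A simple CIT group of Suzuki order has one class of involutions. -/
def SuzukiConj : Prop :=
  ∀ (L : Type u) [Group L] [Finite L] [IsSimpleGroup L],
    IsCIT L → Cfsg.IsSuzuki L → ∀ a b : L, orderOf a = 2 → orderOf b = 2 → IsConj a b

section Card

variable {F : Type*} [Field F] [Fintype F]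

theorem two_eq_zero_of_card {n : ℕ} (hn : n ≠ 0) (hF : Fintype.card F = 2 ^ n) : (2 : F) = 0 :=
  PSL2.even_card_iff.1 (hF ▸ Nat.even_pow.2 ⟨even_two, hn⟩)

/-- The odd primes of the order of `PSL(2, 2^n)`. -/
theorem dvd_card_psl_even {n : ℕ} (hn : n ≠ 0) (hF : Fintype.card F = 2 ^ n) {d : ℕ}
    (hd : d.Prime) (h2 : d ≠ 2) :
    d ∣ Nat.card (Matrix.ProjectiveSpecialLinearGroup (Fin 2) F) ↔ d ∣ 2 ^ (2 * n) - 1 := by
  rw [PSL2.card_PSL_of_two_eq_zero (two_eq_zero_of_card hn hF), hF, ← pow_mul, mul_comm n 2,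
    hd.dvd_mul, or_iff_right]
  exact fun h => h2 ((Nat.prime_dvd_prime_iff_eq hd Nat.prime_two).1 (hd.dvd_of_dvd_pow h))

/-- An order of two different primes in `PSL(2, 2^n)` divides `2^n - 1` or `2^n + 1`. -/
theorem dvd_of_orderOf_eq_mul {n : ℕ} (hn : n ≠ 0) (hF : Fintype.card F = 2 ^ n) {d e : ℕ}
    (hd : d.Prime) (he : e.Prime) (x : Matrix.ProjectiveSpecialLinearGroup (Fin 2) F)
    (hx : orderOf x = d * e) : d * e ∣ 2 ^ n - 1 ∨ d * e ∣ 2 ^ n + 1 := by
  haveI : Fact (Nat.Prime 2) := ⟨Nat.prime_two⟩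
  haveI : CharP F 2 := CharTwo.of_one_ne_zero_of_two_eq_zero one_ne_zero (two_eq_zero_of_card hn hF)
  have hg : Nat.gcd 2 (Fintype.card F - 1) = 1 := by
    refine Nat.coprime_two_left.2 ?_
    obtain ⟨k, hk⟩ := Nat.exists_eq_succ_of_ne_zero hn
    exact ⟨2 ^ k - 1, by have := Nat.two_pow_pos k; rw [hF, hk, pow_succ]; omega⟩
  rcases PSL2.psl_orderOf_dvd 2 x with h | h | h <;> rw [hx] at h
  · have h1 := Nat.le_of_dvd two_pos h
    have := Nat.mul_le_mul hd.two_le he.two_le
    omega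
  · rw [hg, Nat.div_one, hF] at h; exact Or.inl h
  · rw [hg, Nat.div_one, hF] at h; exact Or.inr h

/-- The order of `PSL(3, 4)`. -/
theorem card_psl_three_four (h : Fintype.card F = 4) :
    Nat.card (Matrix.ProjectiveSpecialLinearGroup (Fin 3) F) = 20160 := by
  have h1 := GL.gcd_mul_card_PSL (F := F) 3 (by norm_num)
  rw [GL.card_SL_prod, h] at h1
  norm_num [Finset.prod_Ico_succ_top] at h1
  omega

end Card

/-- A finite group with the prime graph of `PSL(2, 2^m)`, `m ≥ 4`, is a 2-group extended by it,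
granted the classification of the simple CIT groups. -/
theorem psl2_prime_graph {F : Type*} [Field F] [Fintype F] (m : ℕ) (hm : 4 ≤ m)
    (hF : Fintype.card F = 2 ^ m) {G : Type u} [Group G] [Finite G]
    (hclass : Classification.{u}) (hsz : SuzukiConj.{u})
    (hπ : ∀ r : ℕ, r.Prime →
      (r ∣ Nat.card (Matrix.ProjectiveSpecialLinearGroup (Fin 2) F) ↔ r ∣ Nat.card G))
    (hadj : ∀ r s : ℕ, r.Prime → s.Prime → r ≠ s →
      ((∃ x : Matrix.ProjectiveSpecialLinearGroup (Fin 2) F, orderOf x = r * s) ↔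
        (∃ y : G, orderOf y = r * s))) :
    Nonempty (G ⧸ Cfsg.pCore 2 G ≃* Matrix.ProjectiveSpecialLinearGroup (Fin 2) F) := by
  haveI : Fact (Nat.Prime 2) := ⟨Nat.prime_two⟩
  have hm0 : m ≠ 0 := by omega
  have hodd : ∀ d : ℕ, d.Prime → d ≠ 2 → (d ∣ 2 ^ (2 * m) - 1 ↔ d ∣ Nat.card G) := fun d hd h2 =>
    (dvd_card_psl_even hm0 hF hd h2).symm.trans (hπ d hd)
  have hpow : 2 ^ 4 ≤ 2 ^ m := Nat.pow_le_pow_right two_pos hm
  have heven : 2 ∣ 2 ^ m := dvd_pow_self 2 hm0
  have hCIT : IsCIT G := isCIT_of_nonAdj fun r hr h2 y hy => by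
    obtain ⟨x, hx⟩ := (hadj 2 r Nat.prime_two hr (Ne.symm h2)).2 ⟨y, hy⟩
    rcases dvd_of_orderOf_eq_mul hm0 hF Nat.prime_two hr x hx with h | h <;>
      · have := (dvd_mul_right 2 r).trans h
        omega
  -- `G` is not solvable
  have hns : ¬ Group.IsSolvable G := by
    intro hsol
    obtain ⟨a, ha, had⟩ := Nat.exists_prime_and_dvd (n := 2 ^ m - 1) (by omega)
    obtain ⟨b, hb, hbd⟩ := Nat.exists_prime_and_dvd (n := 2 ^ m + 1) (by omega)
    have ha2 : a ≠ 2 := by rintro rfl; omega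
    have hb2 : b ≠ 2 := by rintro rfl; omega
    have hsq : (2 ^ m + 1) * (2 ^ m - 1) = 2 ^ (2 * m) - 1 := by
      rw [← Nat.sq_sub_sq, one_pow, ← pow_mul, mul_comm m 2]
    have hsplit : ∀ d : ℕ, d ∣ 2 ^ m - 1 → d ∣ 2 ^ m + 1 → d ∣ 2 := fun d h1 h2 => by
      have := Nat.dvd_sub h2 h1
      rwa [show 2 ^ m + 1 - (2 ^ m - 1) = 2 by omega] at this
    have hab : a ≠ b := fun h => ha2 ((Nat.prime_dvd_prime_iff_eq ha Nat.prime_two).1
      (hsplit a had (h.symm ▸ hbd)))
    refine PrimeGraph.three_primes Nat.prime_two ha hb (Ne.symm ha2) (Ne.symm hb2) hab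
      ((hπ 2 Nat.prime_two).1 ?_) ((hodd a ha ha2).1 (hsq ▸ dvd_mul_of_dvd_right had _))
      ((hodd b hb hb2).1 (hsq ▸ dvd_mul_of_dvd_left hbd _))
      (nonAdj_two hCIT ha ha2) (nonAdj_two hCIT hb hb2) fun y hy => ?_
    · rw [PSL2.card_PSL_of_two_eq_zero (two_eq_zero_of_card hm0 hF), hF]
      exact heven.mul_right _
    · obtain ⟨x, hx⟩ := (hadj a b ha hb hab).2 ⟨y, hy⟩
      rcases dvd_of_orderOf_eq_mul hm0 hF ha hb x hx with h | h
      · exact hb2 ((Nat.prime_dvd_prime_iff_eq hb Nat.prime_two).1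
          (hsplit b ((dvd_mul_left b a).trans h) hbd))
      · exact ha2 ((Nat.prime_dvd_prime_iff_eq ha Nat.prime_two).1
          (hsplit a had ((dvd_mul_right a b).trans h)))
  -- the socle
  have hH := isCIT_quotient hCIT (Cfsg.pCore 2 G)
  obtain ⟨L, hLn, hLs, hLna, hLC, -⟩ := exists_socle hH (not_isSolvable_quotient_pCore hns)
    PCore.pCore_quotient_self_eq_bot
  have hL2 : 2 ∣ Nat.card L := CIT.two_dvd_card hLna
  have hset : (∀ a b : L, orderOf a = 2 → orderOf b = 2 → IsConj a b) →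
      ∀ d : ℕ, d.Prime → d ≠ 2 → (d ∣ 2 ^ (2 * m) - 1 ↔ d ∣ Nat.card L) := by
    intro hc d hd h2
    refine (hodd d hd h2).trans ⟨fun h => ?_, fun h => ?_⟩
    · exact dvd_card_of_outer (isPGroup_outer hH hL2 hc) hd h2 (dvd_card_quotient_pCore hd h2 h)
    · exact h.trans ((Subgroup.card_subgroup_dvd_card L).trans (Subgroup.card_quotient_dvd_card _))
  have hnsL : ¬ Group.IsSolvable L := fun h => by
    obtain ⟨a, b, hab⟩ := hLna
    exact hab (IsSimpleGroup.comm_iff_isSolvable.2 h a b)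
  rcases hclass L hLC hLna with ⟨K, hKf, hKt, hK, ⟨e⟩⟩ | ⟨K, hKf, hKt, hK, ⟨e⟩⟩ | hS
  · have hq : 4 ≤ Fintype.card K := by
      by_contra h
      push Not at h
      haveI := PSL2.isSolvable_psl_small (F := K) (by omega)
      exact hnsL (solvable_of_solvable_injective (f := e.toMonoidHom) e.injective)
    have hconj : ∀ a b : L, orderOf a = 2 → orderOf b = 2 → IsConj a b := fun a b ha hb => by
      have h := e.symm.toMonoidHom.map_isConj (PSL2.psl_involutions_isConj
        (x := e a) (y := e b) (by rw [MulEquiv.orderOf_eq, ha]) (by rw [MulEquiv.orderOf_eq, hb]))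
      simpa using h
    have hs := hset hconj
    have hcard : Nat.card L = Nat.card (Matrix.ProjectiveSpecialLinearGroup (Fin 2) K) :=
      Nat.card_congr e.toEquiv
    rcases hK with h9 | ⟨n, hn⟩ | ⟨hp, k, hk⟩
    · exfalso
      obtain ⟨d, hd, h2, hdm, h315⟩ := exists_not_dvd_315 hm
      have h3 : Nat.gcd 2 (Fintype.card K - 1) = 2 := by rw [h9]; rfl
      have hc : Nat.card L = 360 := by
        rw [hcard, PSL2.card_PSL, h3, h9]; norm_num
      have h := (hs d hd h2).1 hdm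
      rw [hc, show (360 : ℕ) = 2 ^ 3 * 45 by norm_num] at h
      refine h315 ((((Nat.Coprime.pow_right 3 ((Nat.coprime_primes hd Nat.prime_two).2 h2))).dvd_of_dvd_mul_left
        h).trans (by norm_num))
    · have hn0 : n ≠ 0 := by rintro rfl; rw [hn] at hq; norm_num at hq
      have hmn : m = n := eq_of_same_primes hm (Nat.pos_of_ne_zero hn0) fun d hd h2 => by
        rw [hs d hd h2, hcard, dvd_card_psl_even hn0 hn hd h2]
      subst hmn
      have htop : L = ⊤ := eq_top_of_psl2_even hH L (isPGroup_outer hH hL2 hconj) K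
        (two_eq_zero_of_card hn0 hn) (by omega) e
      exact ⟨((Subgroup.topEquiv.symm.trans (MulEquiv.subgroupCongr htop.symm)).trans e).trans
        (PSL2.pslCongr (FiniteField.ringEquivOfCardEq (hn.trans hF.symm)))⟩
    · exfalso
      set p := Fintype.card K with hpdef
      have hp2 : p ≠ 2 := by omega
      have hKtwo : (2 : K) ≠ 0 := PSL2.odd_card_iff.1 (hp.odd_of_ne_two hp2)
      have h2L : 2 * Nat.card L = p * ((p + 1) * (p - 1)) := by
        rw [hcard, PSL2.two_mul_card_PSL hKtwo, PSL2.q_sq_sub_one]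
      have hpm : p ∣ 2 ^ (2 * m) - 1 := by
        refine (hs p hp hp2).2 ((Nat.Coprime.dvd_of_dvd_mul_left ?_) ⟨_, h2L⟩)
        exact (Nat.coprime_primes hp Nat.prime_two).2 hp2
      have hdiv : ∀ d : ℕ, d.Prime → d ≠ 2 → d ∣ 2 ^ (2 * m) - 1 →
          d = p ∨ d ∣ p + 1 ∨ d ∣ p - 1 := by
        intro d hd h2 hdm
        have h : d ∣ 2 * Nat.card L := dvd_mul_of_dvd_right ((hs d hd h2).1 hdm) 2
        rw [h2L] at h
        rcases hd.dvd_mul.1 h with h | h
        · exact Or.inl ((Nat.prime_dvd_prime_iff_eq hd hp).1 h)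
        · exact Or.inr (hd.dvd_mul.1 h)
      have hno2 : ∀ d j : ℕ, d.Prime → d ≠ 2 → ¬ d ∣ 2 ^ j := fun d j hd h2 h =>
        h2 ((Nat.prime_dvd_prime_iff_eq hd Nat.prime_two).1 (hd.dvd_of_dvd_pow h))
      rcases hk with hk | hk
      · obtain ⟨j, rfl⟩ : ∃ j, k = j + 2 := ⟨k - 2, by
          rcases k with _ | _ | k <;> first | omega | (simp at hk; omega)⟩
        refine false_of_fermat hm (by omega) hp hk hpm fun d hd h2 hdm => ?_
        rcases hdiv d hd h2 hdm with h | h | h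
        · exact Or.inl h
        · refine Or.inr (Nat.Coprime.dvd_of_dvd_mul_left
            ((Nat.coprime_primes hd Nat.prime_two).2 h2) (dvd_trans h (dvd_of_eq ?_)))
          rw [hk, show j + 2 - 1 = j + 1 by omega, pow_succ 2 (j + 1)]
          ring
        · rw [hk, Nat.add_sub_cancel] at h
          exact absurd h (hno2 d _ hd h2)
      · obtain ⟨j, rfl⟩ : ∃ j, k = j + 2 := ⟨k - 2, by
          rcases k with _ | _ | k <;> first | omega | (simp at hk; omega)⟩
        refine false_of_mersenne hm (by omega) hp hk hpm fun d hd h2 hdm => ?_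
        rcases hdiv d hd h2 hdm with h | h | h
        · exact Or.inl h
        · rw [hk] at h
          exact absurd h (hno2 d _ hd h2)
        · refine Or.inr (Nat.Coprime.dvd_of_dvd_mul_left
            ((Nat.coprime_primes hd Nat.prime_two).2 h2) (dvd_trans h (dvd_of_eq ?_)))
          rw [show j + 2 - 1 = j + 1 by omega, Nat.mul_sub, mul_one, ← pow_succ']
          show p - 1 = 2 ^ (j + 2) - 2
          omega
  · exfalso
    obtain ⟨d, hd, h2, hdm, h315⟩ := exists_not_dvd_315 hm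
    haveI : CharP K 2 := CharTwo.of_one_ne_zero_of_two_eq_zero one_ne_zero
      (two_eq_zero_of_card (n := 2) two_ne_zero (by rw [hK]; rfl))
    have hconj : ∀ a b : L, orderOf a = 2 → orderOf b = 2 → IsConj a b := fun a b ha hb => by
      have h := e.symm.toMonoidHom.map_isConj (psl_three_involutions_isConj
        (x := e a) (y := e b) (by rw [MulEquiv.orderOf_eq, ha]) (by rw [MulEquiv.orderOf_eq, hb]))
      simpa using h
    have h := (hset hconj d hd h2).1 hdm
    rw [Nat.card_congr e.toEquiv, card_psl_three_four hK,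
      show (20160 : ℕ) = 2 ^ 6 * 315 by norm_num] at h
    exact h315 ((Nat.Coprime.pow_right 6 ((Nat.coprime_primes hd Nat.prime_two).2 h2)).dvd_of_dvd_mul_left h)
  · exfalso
    have h3 : 3 ∣ 2 ^ (2 * m) - 1 := by
      have := Nat.pow_sub_one_dvd_pow_sub_one 2 (dvd_mul_right 2 m)
      simpa using this
    have h := (hset (hsz L hLC hS) 3 Nat.prime_three (by norm_num)).1 h3
    obtain ⟨-, l, -, hl⟩ := hS
    exact three_not_dvd_suzuki_order l (hl ▸ h)

end Cfsg.Agent.CITConsumer
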