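import Cfsg.Agent.Lib.CITConsumer.Reduce
import Cfsg.Agent.Lib.CITConsumer.Numbers
import Cfsg.Agent.Lib.CITConsumer.SuzukiFacts
import Cfsg.Agent.Lib.Sz.Partition
import Cfsg.Agent.Lib.Sz.Centralizers
import Cfsg.Agent.Lib.CITConsumer.PrimeGraphPSL2

/-!
# Groups with the prime graph of a Suzuki group, given the CIT classification
-/

set_option autoImplicit false

namespace Cfsg.Agent.CITConsumer

open Cfsg.Agent.PrimeGraph (NonAdj)
open Cfsg.Agent.CIT (IsCIT Concl)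

universe u

/-- A simple CIT group of Suzuki order is a Suzuki group. -/
def SuzukiIso : Prop :=
  ∀ (L : Type u) [Group L] [Finite L] [IsSimpleGroup L],
    IsCIT L → Cfsg.IsSuzuki L → Cfsg.Lie.IsoSuzuki L

theorem suzukiConj_of_iso (h : SuzukiIso.{u}) : SuzukiConj.{u} := by
  intro L _ _ _ hC hS a b ha hb
  obtain ⟨F, hFf, hFt, m, hm, hF, ⟨e⟩⟩ := h L hC hS
  exact sz_involutions_isConj hm hF e ha hb

/-- Same odd primes for the orders of two Suzuki groups. -/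
theorem suzuki_exponent_eq {n n' : ℕ} (hn : 2 ≤ n) (hn' : 2 ≤ n')
    (h : ∀ d : ℕ, d.Prime → d ≠ 2 →
      (d ∣ (2 ^ (2 * n) + 1) * (2 ^ n - 1) ↔ d ∣ (2 ^ (2 * n') + 1) * (2 ^ n' - 1))) : n = n' := by
  have up : ∀ k : ℕ, (2 ^ (2 * k) + 1) * (2 ^ k - 1) ∣ 2 ^ (4 * k) - 1 := fun k => by
    have e : 2 ^ (4 * k) - 1 = (2 ^ (2 * k) + 1) * (2 ^ (2 * k) - 1) := by
      rw [← Nat.sq_sub_sq, one_pow, ← pow_mul]; congr 2; ring
    rw [e]
    exact mul_dvd_mul_left _ (Nat.pow_sub_one_dvd_pow_sub_one 2 (dvd_mul_left k 2))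
  have down : ∀ {k r : ℕ}, 2 ≤ k → IsPPD r (4 * k) → r ∣ (2 ^ (2 * k) + 1) * (2 ^ k - 1) := by
    intro k r hk hr
    have h2 : r ∣ (2 ^ (2 * k) + 1) * (2 ^ (2 * k) - 1) := by
      rw [← Nat.sq_sub_sq, one_pow, ← pow_mul, show 2 * k * 2 = 4 * k by ring]
      exact hr.2.1
    exact dvd_mul_of_dvd_left
      ((hr.1.dvd_mul.1 h2).resolve_right (hr.2.2 _ (by omega) (by omega))) _
  obtain ⟨r, hr⟩ := exists_isPPD (n := 4 * n) (by omega) (by omega)
  obtain ⟨s, hs⟩ := exists_isPPD (n := 4 * n') (by omega) (by omega)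
  exact Nat.dvd_antisymm
    (Nat.dvd_of_mul_dvd_mul_left (by norm_num) (hr.dvd (by omega)
      (((h r hr.1 (hr.ne_two (by omega))).1 (down hn hr)).trans (up n'))))
    (Nat.dvd_of_mul_dvd_mul_left (by norm_num) (hs.dvd (by omega)
      (((h s hs.1 (hs.ne_two (by omega))).2 (down hn' hs)).trans (up n))))

theorem dvd_suzuki_order {l d : ℕ} (hd : d.Prime) (h2 : d ≠ 2) :
    d ∣ (2 ^ (2 * l + 1)) ^ 2 * ((2 ^ (2 * l + 1)) ^ 2 + 1) * (2 ^ (2 * l + 1) - 1) ↔
      d ∣ (2 ^ (2 * (2 * l + 1)) + 1) * (2 ^ (2 * l + 1) - 1) := by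
  rw [mul_assoc, hd.dvd_mul, or_iff_right, ← pow_mul, mul_comm (2 * l + 1) 2]
  rw [← pow_mul]
  exact fun h => h2 ((Nat.prime_dvd_prime_iff_eq hd Nat.prime_two).1 (hd.dvd_of_dvd_pow h))

/-- The order of `PSL(2, q)`, `q ≥ 4`, is a multiple of three. -/
theorem three_dvd_card_psl {K : Type*} [Field K] [Fintype K] :
    3 ∣ Nat.card (Matrix.ProjectiveSpecialLinearGroup (Fin 2) K) := by
  have h := PSL2.gcd_mul_card_PSL (F := K)
  refine (Nat.Coprime.dvd_of_dvd_mul_left ?_ (h.symm ▸ ?_ :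
    3 ∣ Nat.gcd 2 (Fintype.card K - 1) * Nat.card (Matrix.ProjectiveSpecialLinearGroup (Fin 2) K)))
  · exact Nat.Coprime.coprime_dvd_right (Nat.gcd_dvd_left _ _) (by norm_num)
  · set q := Fintype.card K with hq
    have hq1 : 1 ≤ q := Fintype.card_pos
    have h3 : q % 3 = 0 ∨ q % 3 = 1 ∨ q % 3 = 2 := by omega
    rcases h3 with h3 | h3 | h3
    · exact dvd_mul_of_dvd_left (Nat.dvd_of_mod_eq_zero h3) _
    all_goals
      refine dvd_mul_of_dvd_right ?_ _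
      have hm : q ^ 2 % 3 = 1 := by rw [Nat.pow_mod, h3]
      omega

/-- A finite group with the prime graph of a Suzuki group is a 2-group extended by it, granted
the classification of the simple CIT groups and the uniqueness of the Suzuki groups. -/
theorem sz_prime_graph {F : Type*} [Field F] [Fintype F] (m : ℕ) (hm : 1 ≤ m)
    (hF : Fintype.card F = 2 ^ (2 * m + 1)) {G : Type u} [Group G] [Finite G]
    (hclass : Classification.{u}) (hiso : SuzukiIso.{u})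
    (hπ : ∀ r : ℕ, r.Prime → (r ∣ Nat.card ↥(Cfsg.Lie.Sz F (2 ^ (m + 1))) ↔ r ∣ Nat.card G))
    (hadj : ∀ r s : ℕ, r.Prime → s.Prime → r ≠ s →
      ((∃ x : ↥(Cfsg.Lie.Sz F (2 ^ (m + 1))), orderOf x = r * s) ↔
        (∃ y : G, orderOf y = r * s))) :
    Nonempty (G ⧸ Cfsg.pCore 2 G ≃* ↥(Cfsg.Lie.Sz F (2 ^ (m + 1)))) := by
  haveI : Fact (Nat.Prime 2) := ⟨Nat.prime_two⟩
  haveI : Finite ↥(Cfsg.Lie.Sz F (2 ^ (m + 1))) := Finite.of_equiv _ (SZ.szEquiv hm hF).toEquiv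
  -- element orders of the Suzuki group
  obtain ⟨Up, Um, hUp, hUm, -, hpart⟩ := SZ.partition hm hF
  obtain ⟨c1, c2, c3, c4, c5, c6⟩ := SZ.coprime_facts hm
  set kp := 2 ^ (2 * m + 1) + 2 ^ (m + 1) + 1 with hkp
  set km := 2 ^ (2 * m + 1) - 2 ^ (m + 1) + 1 with hkm
  have hord : ∀ x : Cfsg.Sz F m, orderOf x ∣ (2 ^ (2 * m + 1)) ^ 2 ∨
      orderOf x ∣ 2 ^ (2 * m + 1) - 1 ∨ orderOf x ∣ kp ∨ orderOf x ∣ km := by
    intro x
    by_cases hx : x = 1
    · subst hx; exact Or.inl (by rw [orderOf_one]; exact one_dvd _)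
    rcases hpart x hx with h | h | h | h
    all_goals obtain ⟨g, hg⟩ := (SZ.mem_conjSet_iff.1 h).2
    · exact Or.inl (by simpa [SZ.card_uGrp, hF] using SZ.orderOf_dvd_of_mem_conj hg)
    · exact Or.inr (Or.inl (by simpa [SZ.card_hGrp, hF] using SZ.orderOf_dvd_of_mem_conj hg))
    · exact Or.inr (Or.inr (Or.inl (hUp.card ▸ SZ.orderOf_dvd_of_mem_conj hg)))
    · exact Or.inr (Or.inr (Or.inr (hUm.card ▸ SZ.orderOf_dvd_of_mem_conj hg)))
  have hnadj : ∀ (a b : ℕ) (A B : ℕ), a.Prime → b.Prime → a ≠ b →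
      (a ∣ A) → (b ∣ B) →
      (∀ C : ℕ, (C = (2 ^ (2 * m + 1)) ^ 2 ∨ C = 2 ^ (2 * m + 1) - 1 ∨ C = kp ∨ C = km) →
        a ∣ C → b ∣ C → False) → NonAdj G a b := by
    intro a b A B ha hb hab _ _ hC y hy
    obtain ⟨x, hx⟩ := (hadj a b ha hb hab).2 ⟨y, hy⟩
    set x' := (SZ.szEquiv hm hF).symm x
    have hx' : orderOf x' = a * b := by rw [MulEquiv.orderOf_eq, hx]
    rcases hord x' with h | h | h | h <;> rw [hx'] at h
    · exact hC _ (Or.inl rfl) ((dvd_mul_right a b).trans h) ((dvd_mul_left b a).trans h)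
    · exact hC _ (Or.inr (Or.inl rfl)) ((dvd_mul_right a b).trans h) ((dvd_mul_left b a).trans h)
    · exact hC _ (Or.inr (Or.inr (Or.inl rfl))) ((dvd_mul_right a b).trans h) ((dvd_mul_left b a).trans h)
    · exact hC _ (Or.inr (Or.inr (Or.inr rfl))) ((dvd_mul_right a b).trans h) ((dvd_mul_left b a).trans h)
  have hno : ∀ {d A B : ℕ}, d.Prime → A.Coprime B → d ∣ A → d ∣ B → False :=
    fun hd hc h1 h2 => hd.ne_one (Nat.eq_one_of_dvd_coprimes hc h1 h2)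
  have h2U : 2 ∣ (2 ^ (2 * m + 1)) ^ 2 :=
    dvd_pow (dvd_pow_self 2 (by omega)) two_ne_zero
  have h2only : ∀ {d : ℕ}, d.Prime → d ∣ (2 ^ (2 * m + 1)) ^ 2 → d = 2 := fun hd h =>
    (Nat.prime_dvd_prime_iff_eq hd Nat.prime_two).1 (hd.dvd_of_dvd_pow (hd.dvd_of_dvd_pow h))
  have hCIT : IsCIT G := isCIT_of_nonAdj fun r hr h2 => by
    refine hnadj 2 r 2 r Nat.prime_two hr (Ne.symm h2) dvd_rfl dvd_rfl fun C hC h2C hrC => ?_
    rcases hC with rfl | rfl | rfl | rfl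
    · exact h2 (h2only hr hrC)
    · exact hno Nat.prime_two c1 h2U h2C
    · exact hno Nat.prime_two c2 h2U h2C
    · exact hno Nat.prime_two c3 h2U h2C
  have hodd : ∀ d : ℕ, d.Prime → d ≠ 2 →
      (d ∣ (2 ^ (2 * (2 * m + 1)) + 1) * (2 ^ (2 * m + 1) - 1) ↔ d ∣ Nat.card G) := by
    intro d hd h2
    rw [← hπ d hd, SZ.card_LieSz hm hF, hF, dvd_suzuki_order hd h2]
  have h3G : ¬ 3 ∣ Nat.card G := by
    rw [← hπ 3 Nat.prime_three, SZ.card_LieSz hm hF, hF]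
    exact three_not_dvd_suzuki_order m
  have hns : ¬ Group.IsSolvable G := by
    intro hsol
    have hb := (SZ.IsTorusOrder.bound (m := m) (Or.inl rfl) hm).2
    have hb' := (SZ.IsTorusOrder.bound (m := m) (k := km) (Or.inr rfl) hm).2
    have h8 : 2 ^ 3 ≤ 2 ^ (2 * m + 1) := Nat.pow_le_pow_right two_pos (by omega)
    obtain ⟨a, ha, had⟩ := Nat.exists_prime_and_dvd (n := 2 ^ (2 * m + 1) - 1) (by omega)
    obtain ⟨b, hb, hbd⟩ := Nat.exists_prime_and_dvd (n := kp) (by omega)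
    obtain ⟨c, hc, hcd⟩ := Nat.exists_prime_and_dvd (n := km) (by omega)
    have ha2 : a ≠ 2 := fun e => hno Nat.prime_two c1 h2U (e ▸ had)
    have hb2 : b ≠ 2 := fun e => hno Nat.prime_two c2 h2U (e ▸ hbd)
    have hc2 : c ≠ 2 := fun e => hno Nat.prime_two c3 h2U (e ▸ hcd)
    have hab : a ≠ b := fun e => hno ha c4 had (e ▸ hbd)
    have hac : a ≠ c := fun e => hno ha c5 had (e ▸ hcd)
    have hbc : b ≠ c := fun e => hno hb c6 hbd (e ▸ hcd)
    have hprod : kp * km = 2 ^ (2 * (2 * m + 1)) + 1 := by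
      rw [hkp, hkm, SZ.torus_prod hm, ← pow_mul, mul_comm (2 * m + 1) 2]
    refine PrimeGraph.three_primes ha hb hc hab hac hbc
      ((hodd a ha ha2).1 (dvd_mul_of_dvd_right had _))
      ((hodd b hb hb2).1 (dvd_mul_of_dvd_left (hprod ▸ dvd_mul_of_dvd_left hbd km) _))
      ((hodd c hc hc2).1 (dvd_mul_of_dvd_left (hprod ▸ dvd_mul_of_dvd_right hcd kp) _))
      (hnadj a b _ _ ha hb hab had hbd fun C hC haC hbC => ?_)
      (hnadj a c _ _ ha hc hac had hcd fun C hC haC hcC => ?_)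
      (hnadj b c _ _ hb hc hbc hbd hcd fun C hC hbC hcC => ?_)
    · rcases hC with rfl | rfl | rfl | rfl
      · exact ha2 (h2only ha haC)
      · exact hno hb c4 hbC hbd
      · exact hno ha c4 had haC
      · exact hno ha c5 had haC
    · rcases hC with rfl | rfl | rfl | rfl
      · exact ha2 (h2only ha haC)
      · exact hno hc c5 hcC hcd
      · exact hno ha c4 had haC
      · exact hno ha c5 had haC
    · rcases hC with rfl | rfl | rfl | rfl
      · exact hb2 (h2only hb hbC)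
      · exact hno hb c4 hbC hbd
      · exact hno hc c6 hcC hcd
      · exact hno hb c6 hbd hbC
  obtain ⟨L, hLn, hLs, hLna, hLC, hLcent⟩ := exists_socle (isCIT_quotient hCIT (Cfsg.pCore 2 G))
    (not_isSolvable_quotient_pCore hns) PCore.pCore_quotient_self_eq_bot
  have hLG : Nat.card L ∣ Nat.card G :=
    (Subgroup.card_subgroup_dvd_card L).trans (Subgroup.card_quotient_dvd_card _)
  rcases hclass L hLC hLna with ⟨K, hKf, hKt, -, ⟨e⟩⟩ | ⟨K, hKf, hKt, hK, ⟨e⟩⟩ | hS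
  · exact absurd ((Nat.card_congr e.toEquiv ▸ three_dvd_card_psl).trans hLG) h3G
  · have h := hLG
    rw [Nat.card_congr e.toEquiv, card_psl_three_four hK] at h
    exact absurd (Dvd.dvd.trans (by norm_num) h) h3G
  · obtain ⟨K, hKf, hKt, l, hl, hK, ⟨e⟩⟩ := hiso L hLC hS
    have hout : IsPGroup 2 ((G ⧸ Cfsg.pCore 2 G) ⧸ L) :=
      isPGroup_outer (isCIT_quotient hCIT (Cfsg.pCore 2 G)) (CIT.two_dvd_card hLna)
        (fun a b => sz_involutions_isConj hl hK e)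
    have htop := eq_top_of_suzuki L hLcent hout hl hK e
    have hml : 2 * m + 1 = 2 * l + 1 := suzuki_exponent_eq (by omega) (by omega) fun d hd h2 => by
      rw [hodd d hd h2, ← dvd_suzuki_order hd h2, ← hK, ← SZ.card_LieSz hl hK,
        ← Nat.card_congr e.toEquiv]
      exact ⟨fun h => dvd_card_of_outer hout hd h2 (dvd_card_quotient_pCore hd h2 h),
        fun h => h.trans hLG⟩
    obtain rfl : m = l := by omega
    obtain ⟨e'⟩ := lieSz_congr hm hK hF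
    exact ⟨((Subgroup.topEquiv.symm.trans (MulEquiv.subgroupCongr htop.symm)).trans e).trans e'⟩

end Cfsg.Agent.CITConsumer
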